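import Cfsg.Agent.FS.N.B.Cf
import Cfsg.Agent.FS.N.B.TvC

set_option maxRecDepth 100000
set_option linter.all false
set_option Elab.async false

namespace Cfsg.Agent.FS.NB.D

noncomputable def ca2 : Gh := ⟨4, 0x2000500020001000000020001000000010000, 0xc000d000e000f00090008000b000a00070006000500040003000200010000, [],
 [⟨0x40002000100020015, 1, 0, 8⟩],
 ⟨0x8000400080004, (sl 0x1000100000000000102020000000100010000000000020cb8074a), 0xc0008, 0⟩, false⟩
noncomputable def da2 : List Ds := []
noncomputable def pa2 : Ct := .nil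
theorem ta2 : ClF 4 ca2.R false [] :=
  Gh.clT (c := ca2) (DL := da2) (C := 0) (pool := 0) (ps := pa2) (V := 0x2000100020001) (by decide +kernel) _

noncomputable def lA0 : List ℕ := [ca2.R]
theorem aA0 : Clf 4 lA0 :=
  .cons ta2 <| .nil

end Cfsg.Agent.FS.NB.D
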