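import Cfsg.Agent.FS.N.B.Is
import Cfsg.Agent.FS.N.B.D.Na0
import Cfsg.Agent.FS.N.M.L.dD8

set_option maxRecDepth 100000
set_option linter.all false
set_option Elab.async false

namespace Cfsg.Agent.FS.NB.D

theorem fa0 : ClF 3 ca0.R false (N.M.E_dD8.map Prod.fst) :=
  Gh.clR ba0 sa0 N.M.E_dD8_ok (vs := [⟨0, 0, 0, 0, 0x100050003, 0, 0, [0], 0⟩]) (by decide +kernel)
theorem ta0 {I} : Cm 3 ca0.R I (N.M.E_dD8.map Prod.fst) := .of_f fa0
theorem ia0 : InI 3 ca0.R I3 := Gh.inI (c := ca0) (by decide +kernel)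

end Cfsg.Agent.FS.NB.D
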