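import Cfsg.Agent.FS.N.B.Is
import Cfsg.Agent.FS.N.B.D.Na0
import Cfsg.Agent.FS.N.M.L.dD16
import Cfsg.Agent.FS.N.M.L.dQ16
import Cfsg.Agent.FS.N.M.L.eLa1

set_option maxRecDepth 100000
set_option linter.all false
set_option Elab.async false

namespace Cfsg.Agent.FS.NB.D

theorem fa1 : ClF 4 ca1.R false (N.M.E_eLa1.map Prod.fst) :=
  Gh.clR ba1 sa1 N.M.E_eLa1_ok (vs := [⟨0, 0, 0, 0, 0x1000a000f0009, 0xa0004000a0004, 2, [0], 0x1000000000002⟩]) (by decide +kernel)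
theorem ta1 {I} : Cm 4 ca1.R I (N.M.E_eLa1.map Prod.fst) := .of_f fa1
theorem ia1 : InI 4 ca1.R I4 := Gh.inI (c := ca1) (by decide +kernel)
theorem fa3 : ClF 4 ca3.R false (N.M.E_dQ16.map Prod.fst) :=
  Gh.clR ba3 sa3 N.M.E_dQ16_ok (vs := [⟨0, 0, 0, 1, 0x1000300040008, 0x4000200040002, 8, [0], 0x1000000000001⟩,
 ⟨0, 0, 0, 0, 0x1000300040008, 0, 0, [1], 0⟩]) (by decide +kernel)
theorem ta3 {I} : Cm 4 ca3.R I (N.M.E_dQ16.map Prod.fst) := .of_f fa3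
theorem ia3 : InI 4 ca3.R I4 := Gh.inI (c := ca3) (by decide +kernel)
theorem fa4 : ClF 4 ca4.R false (N.M.E_dD16.map Prod.fst) :=
  Gh.clR ba4 sa4 N.M.E_dD16_ok (vs := [⟨0, 0, 0, 1, 0x10003000a0004, 0x4000200040002, 8, [0], 0x1000000000001⟩,
 ⟨0, 0, 0, 0, 0x10003000a0004, 0, 0, [1], 0⟩]) (by decide +kernel)
theorem ta4 {I} : Cm 4 ca4.R I (N.M.E_dD16.map Prod.fst) := .of_f fa4
theorem ia4 : InI 4 ca4.R I4 := Gh.inI (c := ca4) (by decide +kernel)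

end Cfsg.Agent.FS.NB.D
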