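import Cfsg.Agent.FS.N.B.Is
import Cfsg.Agent.FS.N.B.D.Na0
import Cfsg.Agent.FS.N.M.L.dD32
import Cfsg.Agent.FS.N.M.L.dQ32
import Cfsg.Agent.FS.N.M.L.dW32
import Cfsg.Agent.FS.N.M.L.eLa3
import Cfsg.Agent.FS.N.M.L.eLb3

set_option maxRecDepth 100000
set_option linter.all false
set_option Elab.async false

namespace Cfsg.Agent.FS.NB.D

theorem fa7 : ClF 5 ca7.R false (N.M.E_eLa3.map Prod.fst) :=
  Gh.clR ba7 sa7 N.M.E_eLa3_ok (vs := [⟨0, 0, 0, 2, (sl 0x10002000a001b000e00250059), 0x14000800140008, 4, [0, 1], 0x1000000000002⟩,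
 ⟨0, 0, 0, 2, (sl 0x10002000a001b000e00250059), 0x14000800140008, 4, [0, 1], 0x1000000000002⟩]) (by decide +kernel)
theorem ta7 {I} : Cm 5 ca7.R I (N.M.E_eLa3.map Prod.fst) := .of_f fa7
theorem ia7 : InI 5 ca7.R I5 := Gh.inI (c := ca7) (by decide +kernel)
theorem fa9 : ClF 5 ca9.R false (N.M.E_eLb3.map Prod.fst) :=
  Gh.clR ba9 sa9 N.M.E_eLb3_ok (vs := [⟨0, 0, 0, 0, (sl 0x10003000c001900050028005a), 0x14000c0014000c, 4, [0], 0x1000000000001⟩]) (by decide +kernel)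
theorem ta9 {I} : Cm 5 ca9.R I (N.M.E_eLb3.map Prod.fst) := .of_f fa9
theorem ia9 : InI 5 ca9.R I5 := Gh.inI (c := ca9) (by decide +kernel)
theorem fa12 : ClF 5 ca12.R false (N.M.E_dW32.map Prod.fst) :=
  Gh.clR ba12 sa12 N.M.E_dW32_ok (vs := [⟨0, 0, 0, 0, (sl 0x100050006000800160021004d), 0, 0, [0], 0⟩]) (by decide +kernel)
theorem ta12 {I} : Cm 5 ca12.R I (N.M.E_dW32.map Prod.fst) := .of_f fa12
theorem ia12 : InI 5 ca12.R I5 := Gh.inI (c := ca12) (by decide +kernel)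
theorem fa13 : ClF 5 ca13.R false (N.M.E_dQ32.map Prod.fst) :=
  Gh.clR ba13 sa13 N.M.E_dQ32_ok (vs := [⟨0, 0, 0, 1, (sl 0x100030006000f0014001e004b), 0x8000400080004, 16, [0], 0x1000000000001⟩,
 ⟨0, 0, 0, 0, (sl 0x100030006000f0014001e004b), 0, 0, [1], 0⟩]) (by decide +kernel)
theorem ta13 {I} : Cm 5 ca13.R I (N.M.E_dQ32.map Prod.fst) := .of_f fa13
theorem ia13 : InI 5 ca13.R I5 := Gh.inI (c := ca13) (by decide +kernel)
theorem fa14 : ClF 5 ca14.R false (N.M.E_dD32.map Prod.fst) :=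
  Gh.clR ba14 sa14 N.M.E_dD32_ok (vs := [⟨0, 0, 0, 1, (sl 0x1000300060012000e00210045), 0x8000400080004, 16, [0], 0x1000000000001⟩,
 ⟨0, 0, 0, 0, (sl 0x100030006000c0014001b004b), 0, 0, [1], 0⟩]) (by decide +kernel)
theorem ta14 {I} : Cm 5 ca14.R I (N.M.E_dD32.map Prod.fst) := .of_f fa14
theorem ia14 : InI 5 ca14.R I5 := Gh.inI (c := ca14) (by decide +kernel)

end Cfsg.Agent.FS.NB.D
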