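import Cfsg.Agent.FS.N.B.Is
import Cfsg.Agent.FS.N.B.D.Na0
import Cfsg.Agent.FS.N.M.L.dD64
import Cfsg.Agent.FS.N.M.L.dM12
import Cfsg.Agent.FS.N.M.L.dQ64
import Cfsg.Agent.FS.N.M.L.dU34
import Cfsg.Agent.FS.N.M.L.dU42
import Cfsg.Agent.FS.N.M.L.eLb1
import Cfsg.Agent.FS.N.M.L.eLb2
import Cfsg.Agent.FS.N.M.L.eLb6
import Cfsg.Agent.FS.N.M.L.eLc5

set_option maxRecDepth 100000
set_option linter.all false
set_option Elab.async false

namespace Cfsg.Agent.FS.NB.D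

theorem fa20 : ClF 6 ca20.R false [] :=
  Gh.clR ba20 sa20 (E := []) (fun _ h => nomatch h) (vs := [⟨0x8000400080004, 0x20001000200010, 0, 0, 0, 0, 0, [], 0⟩]) (by decide +kernel)
theorem ta20 {I} : Cm 6 ca20.R I [] := .of_f fa20
theorem fa23 : ClF 6 ca23.R false (N.M.E_dU34.map Prod.fst) :=
  Gh.clR ba23 sa23 N.M.E_dU34_ok (vs := [⟨0, 0, 0, 0, (sl 0x100030004000e00100021003d00b2), 0, 0, [0, 1], 0⟩,
 ⟨0, 0, 0, 0, (sl 0x100030004000e00100021003d00b2), 0, 0, [0, 1], 0⟩]) (by decide +kernel)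
theorem ta23 {I} : Cm 6 ca23.R I (N.M.E_dU34.map Prod.fst) := .of_f fa23
theorem ia23 : InI 6 ca23.R I6 := Gh.inI (c := ca23) (by decide +kernel)
theorem fa28 : ClF 6 ca28.R false (N.M.E_eLb1.map Prod.fst) :=
  Gh.clR ba28 sa28 N.M.E_eLb1_ok (vs := [⟨0, 0, 0, 0, (sl 0x10002000e001f0004002e006300fb), 0x100008000400080054, 32, [0], 0x1000000000002⟩]) (by decide +kernel)
theorem ta28 {I} : Cm 6 ca28.R I (N.M.E_eLb1.map Prod.fst) := .of_f fa28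
theorem ia28 : InI 6 ca28.R I6 := Gh.inI (c := ca28) (by decide +kernel)
theorem fa29 : ClF 6 ca29.R false (N.M.E_dM12.map Prod.fst) :=
  Gh.clR ba29 sa29 N.M.E_dM12_ok (vs := [⟨0, 0, 0, 0, (sl 0x10002000a000c00100021005b008f), 0, 0, [0, 1], 0⟩,
 ⟨0, 0, 0, 0, (sl 0x10002000a000c00100021005b008f), 0, 0, [0, 1], 0⟩,
 ⟨0, 0, 0, 1, (sl 0x10002000a000c00100021005b008f), 0x28001000280010, 8, [2], 0x1000000000001⟩]) (by decide +kernel)
theorem ta29 {I} : Cm 6 ca29.R I (N.M.E_dM12.map Prod.fst) := .of_f fa29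
theorem ia29 : InI 6 ca29.R I6 := Gh.inI (c := ca29) (by decide +kernel)
theorem fa30 : ClF 6 ca30.R false (N.M.E_dU42.map Prod.fst) :=
  Gh.clR ba30 sa30 N.M.E_dU42_ok (vs := [⟨0, 0, 0, 0, (sl 0x100060003001e000a002500320151), 0, 0, [0, 1], 0⟩,
 ⟨0, 0, 0, 0, (sl 0x100060003001e000a002500320151), 0, 0, [0, 1], 0⟩]) (by decide +kernel)
theorem ta30 {I} : Cm 6 ca30.R I (N.M.E_dU42.map Prod.fst) := .of_f fa30
theorem ia30 : InI 6 ca30.R I6 := Gh.inI (c := ca30) (by decide +kernel)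
theorem fa33 : ClF 6 ca33.R false (N.M.E_eLb6.map Prod.fst) :=
  Gh.clR ba33 sa33 N.M.E_eLb6_ok (vs := [⟨0, 0, 0, 2, (sl 0x100030007001600300009006c00c2), 0x28001000280010, 8, [0, 1], 0x1000000000001⟩,
 ⟨0, 0, 0, 2, (sl 0x100030007001600300009006c00c2), 0x28001000280010, 8, [0, 1], 0x1000000000001⟩]) (by decide +kernel)
theorem ta33 {I} : Cm 6 ca33.R I (N.M.E_eLb6.map Prod.fst) := .of_f fa33
theorem ia33 : InI 6 ca33.R I6 := Gh.inI (c := ca33) (by decide +kernel)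
theorem fa35 : ClF 6 ca35.R false (N.M.E_eLc5.map Prod.fst) :=
  Gh.clR ba35 sa35 N.M.E_eLc5_ok (vs := [⟨0, 0, 0, 0, (sl 0x100030007001900300008006c00d0), 0x28001800280018, 8, [0], 0x1000000000001⟩]) (by decide +kernel)
theorem ta35 {I} : Cm 6 ca35.R I (N.M.E_eLc5.map Prod.fst) := .of_f fa35
theorem ia35 : InI 6 ca35.R I6 := Gh.inI (c := ca35) (by decide +kernel)
theorem fa37 : ClF 6 ca37.R false (N.M.E_eLb2.map Prod.fst) :=
  Gh.clR ba37 sa37 N.M.E_eLb2_ok (vs := [⟨0, 0, 0, 0, (sl 0x100020004001b000c0037003900f0), 0x100008000400080054, 32, [0], 0x1000000000001⟩]) (by decide +kernel)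
theorem ta37 {I} : Cm 6 ca37.R I (N.M.E_eLb2.map Prod.fst) := .of_f fa37
theorem ia37 : InI 6 ca37.R I6 := Gh.inI (c := ca37) (by decide +kernel)
theorem fa41 : ClF 6 ca41.R false (N.M.E_dQ64.map Prod.fst) :=
  Gh.clR ba41 sa41 N.M.E_dQ64_ok (vs := [⟨0, 0, 0, 1, (sl 0x100030006000d0034001b006b00a7), 0x10000800100008, 32, [0], 0x1000000000001⟩,
 ⟨0, 0, 0, 0, (sl 0x100030006000d0034001b006b00a7), 0, 0, [1], 0⟩]) (by decide +kernel)
theorem ta41 {I} : Cm 6 ca41.R I (N.M.E_dQ64.map Prod.fst) := .of_f fa41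
theorem ia41 : InI 6 ca41.R I6 := Gh.inI (c := ca41) (by decide +kernel)
theorem fa42 : ClF 6 ca42.R false (N.M.E_dD64.map Prod.fst) :=
  Gh.clR ba42 sa42 N.M.E_dD64_ok (vs := [⟨0, 0, 0, 1, (sl 0x100020005000a003c0016006e007a), 0x10000800100008, 32, [0], 0x1000000000001⟩,
 ⟨0, 0, 0, 0, (sl 0x100020005000a003c0027006e008b), 0, 0, [1], 0⟩]) (by decide +kernel)
theorem ta42 {I} : Cm 6 ca42.R I (N.M.E_dD64.map Prod.fst) := .of_f fa42
theorem ia42 : InI 6 ca42.R I6 := Gh.inI (c := ca42) (by decide +kernel)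

noncomputable def lF6 : List ℕ := [ca20.R]
theorem aF6 {I} : Cms 6 I lF6 :=
  .cons ta20 <| .nil

end Cfsg.Agent.FS.NB.D
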