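import Cfsg.Agent.FS.N.B.Is
import Cfsg.Agent.FS.N.B.D.Na0
import Cfsg.Agent.FS.N.B.D.Na1
import Cfsg.Agent.FS.N.M.L.dA10
import Cfsg.Agent.FS.N.M.L.dD128
import Cfsg.Agent.FS.N.M.L.dJ2
import Cfsg.Agent.FS.N.M.L.dM122
import Cfsg.Agent.FS.N.M.L.dM22
import Cfsg.Agent.FS.N.M.L.dQ128
import Cfsg.Agent.FS.N.M.L.dW128
import Cfsg.Agent.FS.N.M.L.eL342
import Cfsg.Agent.FS.N.M.L.eLb5
import Cfsg.Agent.FS.N.M.L.eLc3
import Cfsg.Agent.FS.N.M.L.eLc4
import Cfsg.Agent.FS.N.M.L.eLc9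
import Cfsg.Agent.FS.N.M.L.eLd5

set_option maxRecDepth 100000
set_option linter.all false
set_option Elab.async false

namespace Cfsg.Agent.FS.NB.D

theorem fa48 : ClF 7 ca48.R false [] :=
  Gh.clR ba48 sa48 (E := []) (fun _ h => nomatch h) (vs := [⟨0x14000800140008, 0x40002000400020, 0, 0, 0, 0, 0, [], 0⟩,
 ⟨0x14000800140008, 0x40002000400020, 0, 0, 0, 0, 0, [], 0⟩]) (by decide +kernel)
theorem ta48 {I} : Cm 7 ca48.R I [] := .of_f fa48
theorem fa84 : ClF 7 ca84.R false [] :=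
  Gh.clR ba84 sa84 (E := []) (fun _ h => nomatch h) (vs := [⟨0x20000400200004, 0x10000800100008, 0, 0, 0, 0, 0, [], 0⟩,
 ⟨0x40002000400020, 0x10000800100008, 0, 0, 0, 0, 0, [], 0⟩,
 ⟨0x20000400200004, 0x10000800100008, 0, 0, 0, 0, 0, [], 0⟩]) (by decide +kernel)
theorem ta84 {I} : Cm 7 ca84.R I [] := .of_f fa84
theorem fa85 : ClF 7 ca85.R false [] :=
  Gh.clR ba85 sa85 (E := []) (fun _ h => nomatch h) (vs := [⟨0x20000400200004, 0x10000800100008, 0, 0, 0, 0, 0, [], 0⟩,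
 ⟨0x40002000400020, 0x10000800100008, 0, 0, 0, 0, 0, [], 0⟩,
 ⟨0x20000400200004, 0x10000800100008, 0, 0, 0, 0, 0, [], 0⟩]) (by decide +kernel)
theorem ta85 {I} : Cm 7 ca85.R I [] := .of_f fa85
theorem fa120 : ClF 7 ca120.R false (N.M.E_eLc3.map Prod.fst) :=
  Gh.clR ba120 sa120 N.M.E_eLc3_ok (vs := [⟨0, 0, 0, 0, (sl 0x100020004001600340008004100a80226), 0x2000100008001000a8, 64, [0], 0x1000000000001⟩]) (by decide +kernel)
theorem ta120 {I} : Cm 7 ca120.R I (N.M.E_eLc3.map Prod.fst) := .of_f fa120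
theorem ia120 : InI 7 ca120.R I7 := Gh.inI (c := ca120) (by decide +kernel)
theorem fa121 : ClF 7 ca121.R false (N.M.E_eLb5.map Prod.fst) :=
  Gh.clR ba121 sa121 N.M.E_eLb5_ok (vs := [⟨0, 0, 0, 0, (sl 0x100030005001600370009005c00c20269), 0x2000100008001000a8, 64, [0, 1], 0x1000000000001⟩,
 ⟨0, 0, 0, 0, (sl 0x100030005001600370009005c00c20269), 0x2000100008001000a8, 64, [0, 1], 0x1000000000001⟩]) (by decide +kernel)
theorem ta121 {I} : Cm 7 ca121.R I (N.M.E_eLb5.map Prod.fst) := .of_f fa121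
theorem ia121 : InI 7 ca121.R I7 := Gh.inI (c := ca121) (by decide +kernel)
theorem fa125 : ClF 7 ca125.R false [] :=
  Gh.clR ba125 sa125 (E := []) (fun _ h => nomatch h) (vs := [⟨0x20000800200008, 0x10000400100004, 0, 0, 0, 0, 0, [], 0⟩]) (by decide +kernel)
theorem ta125 {I} : Cm 7 ca125.R I [] := .of_f fa125
theorem fa126 : ClF 7 ca126.R false [] :=
  Gh.clR ba126 sa126 (E := []) (fun _ h => nomatch h) (vs := [⟨0x10000400100004, 0x20000800200008, 0, 0, 0, 0, 0, [], 0⟩]) (by decide +kernel)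
theorem ta126 {I} : Cm 7 ca126.R I [] := .of_f fa126
theorem fa130 : ClF 7 ca130.R false [] :=
  Gh.clR ba130 sa130 (E := []) (fun _ h => nomatch h) (vs := [⟨0x10000400100004, 0x20000800200008, 0, 0, 0, 0, 0, [], 0⟩]) (by decide +kernel)
theorem ta130 {I} : Cm 7 ca130.R I [] := .of_f fa130
theorem fa133 : ClF 7 ca133.R false (N.M.E_dJ2.map Prod.fst) :=
  Gh.clR ba133 sa133 N.M.E_dJ2_ok (vs := [⟨0, 0, 0, 1, (sl 0x1004500490040004e00100031080d0955), 0x2000100008000400a80054, 64, [0, 1], 0x1000000000001⟩,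
 ⟨0, 0, 0, 1, (sl 0x1004500490040004e00100031080d0955), 0x2000100008000400a80054, 64, [0, 1], 0x1000000000001⟩,
 ⟨0, 0, 0, 0, (sl 0x1004500490040004e00100031080d0955), 0, 0, [2, 3], 0⟩,
 ⟨0, 0, 0, 0, (sl 0x1004500490040004e00100031080d0955), 0, 0, [2, 3], 0⟩]) (by decide +kernel)
theorem ta133 {I} : Cm 7 ca133.R I (N.M.E_dJ2.map Prod.fst) := .of_f fa133
theorem ia133 : InI 7 ca133.R I7 := Gh.inI (c := ca133) (by decide +kernel)
theorem fa134 : ClF 7 ca134.R false (N.M.E_dM122.map Prod.fst) :=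
  Gh.clR ba134 sa134 N.M.E_dM122_ok (vs := [⟨0, 0, 0, 0, (sl 0x10003000b0004003300400010009f029f), 0x400030000400300144, 16, [0, 1], 0x1000000000001⟩,
 ⟨0, 0, 0, 0, (sl 0x10003000b0004003300400010009f029f), 0x400030000400300144, 16, [0, 1], 0x1000000000001⟩]) (by decide +kernel)
theorem ta134 {I} : Cm 7 ca134.R I (N.M.E_dM122.map Prod.fst) := .of_f fa134
theorem ia134 : InI 7 ca134.R I7 := Gh.inI (c := ca134) (by decide +kernel)
theorem fa135 : ClF 7 ca135.R false (N.M.E_dM22.map Prod.fst) :=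
  Gh.clR ba135 sa135 N.M.E_dM22_ok (vs := [⟨0, 0, 0, 1, (sl 0x10002000b00060045002b0016007b02ff), 0x2000100008000400a80054, 64, [0, 2], 0x1000000000001⟩,
 ⟨0, 0, 0, 0, (sl 0x10002000b00060045002b0016007b02ff), 0, 0, [1, 3, 4, 5], 0⟩,
 ⟨0, 0, 0, 1, (sl 0x10002000b00060045002b0016007b02ff), 0x2000100008000400a80054, 64, [0, 2], 0x1000000000001⟩,
 ⟨0, 0, 0, 0, (sl 0x10002000b00060045002b0016007b02ff), 0, 0, [1, 3, 4, 5], 0⟩,
 ⟨0, 0, 0, 0, (sl 0x10002000b00060045002b0016007b02ff), 0, 0, [1, 3, 4, 5], 0⟩,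
 ⟨0, 0, 0, 0, (sl 0x10002000b00060045002b0016007b02ff), 0, 0, [1, 3, 4, 5], 0⟩]) (by decide +kernel)
theorem ta135 {I} : Cm 7 ca135.R I (N.M.E_dM22.map Prod.fst) := .of_f fa135
theorem ia135 : InI 7 ca135.R I7 := Gh.inI (c := ca135) (by decide +kernel)
theorem fa137 : ClF 7 ca137.R false (N.M.E_dA10.map Prod.fst) :=
  Gh.clR ba137 sa137 N.M.E_dA10_ok (vs := [⟨0x28001100280011, 0x20001500200015, 0, 0, 0, 0, 0, [], 0⟩,
 ⟨0, 0, 0, 0, (sl 0x100020009000400150022004100680208), 0, 0, [1, 3], 0⟩,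
 ⟨0, 0, 0, 1, (sl 0x100020009000400150022004100680208), 0x400010000800100148, 32, [2, 4], 0x1000000000001⟩,
 ⟨0, 0, 0, 0, (sl 0x100020009000400150022004100680208), 0, 0, [1, 3], 0⟩,
 ⟨0, 0, 0, 1, (sl 0x100020009000400150022004100680208), 0x400010000800100148, 32, [2, 4], 0x1000000000001⟩]) (by decide +kernel)
theorem ta137 {I} : Cm 7 ca137.R I (N.M.E_dA10.map Prod.fst) := .of_f fa137
theorem ia137 : InI 7 ca137.R I7 := Gh.inI (c := ca137) (by decide +kernel)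
theorem fa139 : ClF 7 ca139.R false (N.M.E_eL342.map Prod.fst) :=
  Gh.clR ba139 sa139 N.M.E_eL342_ok (vs := [⟨0, 0, 0, 0, (sl 0x20001000e0033000800220043013a02c3), 0x2000100008000400a80054, 64, [0, 1], 0x1000000000001⟩,
 ⟨0, 0, 0, 0, (sl 0x20001000e0033000800220043013a02c3), 0x2000100008000400a80054, 64, [0, 1], 0x1000000000001⟩]) (by decide +kernel)
theorem ta139 {I} : Cm 7 ca139.R I (N.M.E_eL342.map Prod.fst) := .of_f fa139
theorem ia139 : InI 7 ca139.R I7 := Gh.inI (c := ca139) (by decide +kernel)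
theorem fa140 : ClF 7 ca140.R false (N.M.E_eLc9.map Prod.fst) :=
  Gh.clR ba140 sa140 N.M.E_eLc9_ok (vs := [⟨0, 0, 0, 2, (sl 0x100030007000f00230061001000f701eb), 0x50002000500020, 16, [0, 1], 0x1000000000001⟩,
 ⟨0, 0, 0, 2, (sl 0x100030007000f00230061001000f701eb), 0x50002000500020, 16, [0, 1], 0x1000000000001⟩]) (by decide +kernel)
theorem ta140 {I} : Cm 7 ca140.R I (N.M.E_eLc9.map Prod.fst) := .of_f fa140
theorem ia140 : InI 7 ca140.R I7 := Gh.inI (c := ca140) (by decide +kernel)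
theorem fa142 : ClF 7 ca142.R false (N.M.E_eLd5.map Prod.fst) :=
  Gh.clR ba142 sa142 N.M.E_eLd5_ok (vs := [⟨0, 0, 0, 0, (sl 0x100020005000b0030006e001100d701fb), 0x50003000500030, 16, [0], 0x1000000000001⟩]) (by decide +kernel)
theorem ta142 {I} : Cm 7 ca142.R I (N.M.E_eLd5.map Prod.fst) := .of_f fa142
theorem ia142 : InI 7 ca142.R I7 := Gh.inI (c := ca142) (by decide +kernel)
theorem fa147 : ClF 7 ca147.R false (N.M.E_dW128.map Prod.fst) :=
  Gh.clR ba147 sa147 N.M.E_dW128_ok (vs := [⟨0, 0, 0, 0, (sl 0x1000200070010001c0042002c00c401e4), 0, 0, [0], 0⟩]) (by decide +kernel)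
theorem ta147 {I} : Cm 7 ca147.R I (N.M.E_dW128.map Prod.fst) := .of_f fa147
theorem ia147 : InI 7 ca147.R I7 := Gh.inI (c := ca147) (by decide +kernel)
theorem fa150 : ClF 7 ca150.R false (N.M.E_eLc4.map Prod.fst) :=
  Gh.clR ba150 sa150 N.M.E_eLc4_ok (vs := [⟨0, 0, 0, 0, (sl 0x100030007000f0033001d005700b30282), 0x2000100008001000a8, 64, [0], 0x1000000000001⟩]) (by decide +kernel)
theorem ta150 {I} : Cm 7 ca150.R I (N.M.E_eLc4.map Prod.fst) := .of_f fa150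
theorem ia150 : InI 7 ca150.R I7 := Gh.inI (c := ca150) (by decide +kernel)
theorem fa152 : ClF 7 ca152.R false (N.M.E_dQ128.map Prod.fst) :=
  Gh.clR ba152 sa152 N.M.E_dQ128_ok (vs := [⟨0, 0, 0, 1, (sl 0x100030006000c0018006b003300f201be), 0x20001000200010, 64, [0], 0x1000000000001⟩,
 ⟨0, 0, 0, 0, (sl 0x100030006000c0018006b003300f201be), 0, 0, [1], 0⟩]) (by decide +kernel)
theorem ta152 {I} : Cm 7 ca152.R I (N.M.E_dQ128.map Prod.fst) := .of_f fa152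
theorem ia152 : InI 7 ca152.R I7 := Gh.inI (c := ca152) (by decide +kernel)
theorem fa153 : ClF 7 ca153.R false (N.M.E_dD128.map Prod.fst) :=
  Gh.clR ba153 sa153 N.M.E_dD128_ok (vs := [⟨0, 0, 0, 1, (sl 0x100020005000a00140078003100dc018f), 0x20001000200010, 64, [0], 0x1000000000001⟩,
 ⟨0, 0, 0, 0, (sl 0x100020005000a00140078003100dc018f), 0, 0, [1], 0⟩]) (by decide +kernel)
theorem ta153 {I} : Cm 7 ca153.R I (N.M.E_dD128.map Prod.fst) := .of_f fa153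
theorem ia153 : InI 7 ca153.R I7 := Gh.inI (c := ca153) (by decide +kernel)

noncomputable def lF7 : List ℕ := [ca48.R, ca84.R, ca85.R, ca125.R, ca126.R, ca130.R]
theorem aF7 {I} : Cms 7 I lF7 :=
  .cons ta48 <| .cons ta84 <| .cons ta85 <| .cons ta125 <| .cons ta126 <| .cons ta130 <|
  .nil

end Cfsg.Agent.FS.NB.D
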