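import Cfsg.Agent.FS.N.B.Is
import Cfsg.Agent.FS.N.B.D.Nb0
import Cfsg.Agent.FS.N.B.D.Nb1
import Cfsg.Agent.FS.N.B.D.Nb2
import Cfsg.Agent.FS.N.B.D.Nb3
import Cfsg.Agent.FS.N.M.L.dD256
import Cfsg.Agent.FS.N.M.L.dG27
import Cfsg.Agent.FS.N.M.L.dLy
import Cfsg.Agent.FS.N.M.L.dM222
import Cfsg.Agent.FS.N.M.L.dQ256
import Cfsg.Agent.FS.N.M.L.dS10
import Cfsg.Agent.FS.N.M.L.dS44
import Cfsg.Agent.FS.N.M.L.dS47
import Cfsg.Agent.FS.N.M.L.eL430
import Cfsg.Agent.FS.N.M.L.eL451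
import Cfsg.Agent.FS.N.M.L.eLc1
import Cfsg.Agent.FS.N.M.L.eLc2
import Cfsg.Agent.FS.N.M.L.eLc8
import Cfsg.Agent.FS.N.M.L.eLd3
import Cfsg.Agent.FS.N.M.L.eLd4
import Cfsg.Agent.FS.N.M.L.eLd8
import Cfsg.Agent.FS.N.M.L.eLe3
import Cfsg.Agent.FS.N.M.L.eWb1
import Cfsg.Agent.FS.N.M.L.eWb2

set_option maxRecDepth 100000
set_option linter.all false
set_option Elab.async false

namespace Cfsg.Agent.FS.NB.D

theorem fb133 : ClF 8 cb133.R false [] :=
  Gh.clR bb133 sb133 (E := []) (fun _ h => nomatch h) (vs := [⟨0x80004000800040, 0x20001000200010, 0, 0, 0, 0, 0, [], 0⟩]) (by decide +kernel)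
theorem tb133 {I} : Cm 8 cb133.R I [] := .of_f fb133
theorem fb183 : ClF 8 cb183.R false (N.M.E_dS44.map Prod.fst) :=
  Gh.clR bb183 sb183 N.M.E_dS44_ok (vs := [⟨0, 0, 0, 0, (sl 0xe0001000d00090066002f0092008e0aab02d7), 0, 0, [0], 0⟩]) (by decide +kernel)
theorem tb183 {I} : Cm 8 cb183.R I (N.M.E_dS44.map Prod.fst) := .of_f fb183
theorem ib183 : InI 8 cb183.R I8 := Gh.inI (c := cb183) (by decide +kernel)
theorem fb221 : ClF 8 cb221.R false (N.M.E_eL451.map Prod.fst) :=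
  Gh.clR bb221 sb221 N.M.E_eL451_ok (vs := [⟨0, 0, 0, 0, (sl 0x10003000a0051000f008300a9009c026b0c8b), 0x8000500020005002a0, 16, [0], 0x1000000000001⟩]) (by decide +kernel)
theorem tb221 {I} : Cm 8 cb221.R I (N.M.E_eL451.map Prod.fst) := .of_f fb221
theorem ib221 : InI 8 cb221.R I8 := Gh.inI (c := cb221) (by decide +kernel)
theorem fb222 : ClF 8 cb222.R false (N.M.E_dM222.map Prod.fst) :=
  Gh.clR bb222 sb222 N.M.E_dM222_ok (vs := [⟨0, 0, 0, 0, (sl 0x1000200090006004b00800032001103070421), 0x8000400030004002b0, 16, [0, 1], 0x1000000000001⟩,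
 ⟨0, 0, 0, 0, (sl 0x1000200090006004b00800032001103070421), 0x8000400030004002b0, 16, [0, 1], 0x1000000000001⟩]) (by decide +kernel)
theorem tb222 {I} : Cm 8 cb222.R I (N.M.E_dM222.map Prod.fst) := .of_f fb222
theorem ib222 : InI 8 cb222.R I8 := Gh.inI (c := cb222) (by decide +kernel)
theorem fb226 : ClF 8 cb226.R false (N.M.E_dS10.map Prod.fst) :=
  Gh.clR bb226 sb226 N.M.E_dS10_ok (vs := [⟨0x48002100480021, 0x40002500400025, 0, 0, 0, 0, 0, [], 0⟩,
 ⟨0, 0, 0, 0, (sl 0x10002000a000600270053008f001002c9033f), 0x8000500020005002a0, 16, [1, 2], 0x1000000000001⟩,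
 ⟨0, 0, 0, 0, (sl 0x10002000a000600270053008f001002c9033f), 0x8000500020005002a0, 16, [1, 2], 0x1000000000001⟩]) (by decide +kernel)
theorem tb226 {I} : Cm 8 cb226.R I (N.M.E_dS10.map Prod.fst) := .of_f fb226
theorem ib226 : InI 8 cb226.R I8 := Gh.inI (c := cb226) (by decide +kernel)
theorem fb255 : ClF 8 cb255.R true [] :=
  Gh.clR bb255 sb255 (E := []) (fun _ h => nomatch h) (vs := [⟨0x20001000200010, 0x80004000800040, 0, 0, 0, 0, 0, [], 0⟩]) (by decide +kernel)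
theorem tb255 : Cm 8 cb255.R I7 [] :=
  .of_p fb255 (Gh.clN (c := cb255) (by decide +kernel))
theorem fb257 : ClF 8 cb257.R true [] :=
  Gh.clR bb257 sb257 (E := []) (fun _ h => nomatch h) (vs := [⟨0x80004000800040, 0x20001000200010, 0, 0, 0, 0, 0, [], 0⟩]) (by decide +kernel)
theorem tb257 : Cm 8 cb257.R I7 [] :=
  .of_p fb257 (Gh.clN (c := cb257) (by decide +kernel))
theorem fb260 : ClF 8 cb260.R true [] :=
  Gh.clR bb260 sb260 (E := []) (fun _ h => nomatch h) (vs := [⟨0x80004000800040, 0x20001000200010, 0, 0, 0, 0, 0, [], 0⟩]) (by decide +kernel)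
theorem tb260 : Cm 8 cb260.R I7 [] :=
  .of_p fb260 (Gh.clN (c := cb260) (by decide +kernel))
theorem fb261 : ClF 8 cb261.R false [] :=
  Gh.clR bb261 sb261 (E := []) (fun _ h => nomatch h) (vs := [⟨0x40000800400008, 0x20001000200010, 0, 0, 0, 0, 0, [], 0⟩,
 ⟨0x80004000800040, 0x20001000200010, 0, 0, 0, 0, 0, [], 0⟩,
 ⟨0x40000800400008, 0x20001000200010, 0, 0, 0, 0, 0, [], 0⟩]) (by decide +kernel)
theorem tb261 {I} : Cm 8 cb261.R I [] := .of_f fb261
theorem fb265 : ClF 8 cb265.R true [] :=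
  Gh.clR bb265 sb265 (E := []) (fun _ h => nomatch h) (vs := [⟨0x80004000800040, 0x20001000200010, 0, 0, 0, 0, 0, [], 0⟩]) (by decide +kernel)
theorem tb265 : Cm 8 cb265.R I7 [] :=
  .of_p fb265 (Gh.clN (c := cb265) (by decide +kernel))
theorem fb390 : ClF 8 cb390.R false (N.M.E_eWb2.map Prod.fst) :=
  Gh.clR bb390 sb390 N.M.E_eWb2_ok (vs := [⟨0, 0, 0, 0, (sl 0x1000200070012001a0092004c002201fa05b8), 0x80004000800040, 32, [0], 0x1000000000001⟩]) (by decide +kernel)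
theorem tb390 {I} : Cm 8 cb390.R I (N.M.E_eWb2.map Prod.fst) := .of_f fb390
theorem ib390 : InI 8 cb390.R I8 := Gh.inI (c := cb390) (by decide +kernel)
theorem fb428 : ClF 8 cb428.R false (N.M.E_eLc1.map Prod.fst) :=
  Gh.clR bb428 sb428 N.M.E_eLc1_ok (vs := [⟨0, 0, 0, 0, (sl 0x1000300090029006e0004001500ba03990646), 0x400020001000200150, 128, [0], 0x1000000000002⟩]) (by decide +kernel)
theorem tb428 {I} : Cm 8 cb428.R I (N.M.E_eLc1.map Prod.fst) := .of_f fb428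
theorem ib428 : InI 8 cb428.R I8 := Gh.inI (c := cb428) (by decide +kernel)
theorem fb429 : ClF 8 cb429.R false (N.M.E_eLd3.map Prod.fst) :=
  Gh.clR bb429 sb429 N.M.E_eLd3_ok (vs := [⟨0, 0, 0, 0, (sl 0x100030007000f00280060001000800204054e), 0x400020001000200150, 128, [0], 0x1000000000001⟩]) (by decide +kernel)
theorem tb429 {I} : Cm 8 cb429.R I (N.M.E_eLd3.map Prod.fst) := .of_f fb429
theorem ib429 : InI 8 cb429.R I8 := Gh.inI (c := cb429) (by decide +kernel)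
theorem fb430 : ClF 8 cb430.R false (N.M.E_eLc8.map Prod.fst) :=
  Gh.clR bb430 sb430 N.M.E_eLc8_ok (vs := [⟨0, 0, 0, 0, (sl 0x100030005000a0037007d00100080021d0562), 0x400020001000200150, 128, [0, 1], 0x1000000000001⟩,
 ⟨0, 0, 0, 0, (sl 0x100030005000a0037007d00100080021d0562), 0x400020001000200150, 128, [0, 1], 0x1000000000001⟩]) (by decide +kernel)
theorem tb430 {I} : Cm 8 cb430.R I (N.M.E_eLc8.map Prod.fst) := .of_f fb430
theorem ib430 : InI 8 cb430.R I8 := Gh.inI (c := cb430) (by decide +kernel)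
theorem fb464 : ClF 8 cb464.R false (N.M.E_dG27.map Prod.fst) :=
  Gh.clR bb464 sb464 N.M.E_dG27_ok (vs := [⟨0, 0, 0, 1, (sl 0x10007000300190060006e002a008602d20888), 0xc0002000c00020, 64, [0], 0x1000000000001⟩,
 ⟨0, 0, 0, 0, (sl 0x1000700050018006600700050008303480876), 0, 0, [1], 0⟩]) (by decide +kernel)
theorem tb464 {I} : Cm 8 cb464.R I (N.M.E_dG27.map Prod.fst) := .of_f fb464
theorem ib464 : InI 8 cb464.R I8 := Gh.inI (c := cb464) (by decide +kernel)
theorem fb471 : ClF 8 cb471.R false (N.M.E_eWb1.map Prod.fst) :=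
  Gh.clR bb471 sb471 N.M.E_eWb1_ok (vs := [⟨0, 0, 0, 0, (sl 0x100070005001e001700ff002a007a01970bce), 0xc0002000c00020, 64, [0], 0x1000000000001⟩]) (by decide +kernel)
theorem tb471 {I} : Cm 8 cb471.R I (N.M.E_eWb1.map Prod.fst) := .of_f fb471
theorem ib471 : InI 8 cb471.R I8 := Gh.inI (c := cb471) (by decide +kernel)
theorem fb488 : ClF 8 cb488.R false (N.M.E_dLy.map Prod.fst) :=
  Gh.clR bb488 sb488 N.M.E_dLy_ok (vs := [⟨0, 0, 0, 2, (sl 0x100030004000e002c001c00510090020e03f1), 0x800040000800400288, 32, [0, 3, 4, 6], (sl 0x1000100fc00010001000100f3000100010001000000000001000000000001a4047e95)⟩,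
 ⟨0, 0, 0, 1, (sl 0x100030004000e002c001c00510090020e03f1), 0x800020001000200290, 64, [0, 1, 4, 5], (sl 0x1000100fc00010001000100f3000100010001000000000001000000000001a4047e95)⟩,
 ⟨0, 0, 0, 0, (sl 0x100030004000e002c001c00510090020e03f1), 0, 0, [2], 0⟩,
 ⟨0, 0, 0, 2, (sl 0x100030004000e002c001c00510090020e03f1), 0x800040000800400288, 32, [0, 3, 4, 6], (sl 0x1000100fc00010001000100f3000100010001000000000001000000000001a4047e95)⟩,
 ⟨0, 0, 0, 2, (sl 0x100030004000e002c001c00510090020e03f1), 0x800040000800400288, 32, [0, 3, 4, 6], (sl 0x1000100fc00010001000100f3000100010001000000000001000000000001a4047e95)⟩,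
 ⟨0, 0, 0, 1, (sl 0x100030004000e002c001c00510090020e03f1), 0x800020001000200290, 64, [0, 1, 4, 5], (sl 0x1000100fc00010001000100f3000100010001000000000001000000000001a4047e95)⟩,
 ⟨0, 0, 0, 2, (sl 0x100030004000e002c001c00510090020e03f1), 0x800040000800400288, 32, [0, 3, 4, 6], (sl 0x1000100fc00010001000100f3000100010001000000000001000000000001a4047e95)⟩]) (by decide +kernel)
theorem tb488 {I} : Cm 8 cb488.R I (N.M.E_dLy.map Prod.fst) := .of_f fb488
theorem ib488 : InI 8 cb488.R I8 := Gh.inI (c := cb488) (by decide +kernel)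
theorem fb489 : ClF 8 cb489.R false (N.M.E_eL430.map Prod.fst) :=
  Gh.clR bb489 sb489 N.M.E_eL430_ok (vs := [⟨0x81001c0081001c, 0x89001800890018, 0x2000000000, 0, 0, 0, 0, [], 0⟩,
 ⟨0, 0, 0, 0, (sl 0x100020005001d000e00900044006d0184070c), 0x800040000800400288, 32, [1], 0x1000000000001⟩]) (by decide +kernel)
theorem tb489 {I} : Cm 8 cb489.R I (N.M.E_eL430.map Prod.fst) := .of_f fb489
theorem ib489 : InI 8 cb489.R I8 := Gh.inI (c := cb489) (by decide +kernel)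
theorem fb490 : ClF 8 cb490.R false (N.M.E_dS47.map Prod.fst) :=
  Gh.clR bb490 sb490 N.M.E_dS47_ok (vs := [⟨0x81001c0081001c, 0x89001800890018, 0x2000000000, 0, 0, 0, 0, [], 0⟩,
 ⟨0, 0, 0, 1, (sl 0x100020005000b001200910051002901a5050b), 0x800040000800400288, 32, [1], 0x1000000000001⟩,
 ⟨0, 0, 0, 0, (sl 0x1000300050010000d009f0026004501610667), 0, 0, [2], 0⟩]) (by decide +kernel)
theorem tb490 {I} : Cm 8 cb490.R I (N.M.E_dS47.map Prod.fst) := .of_f fb490
theorem ib490 : InI 8 cb490.R I8 := Gh.inI (c := cb490) (by decide +kernel)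
theorem fb491 : ClF 8 cb491.R false (N.M.E_eLd8.map Prod.fst) :=
  Gh.clR bb491 sb491 N.M.E_eLd8_ok (vs := [⟨0, 0, 0, 2, (sl 0x100020005000a0014005200d80021023603af), 0xa0004000a00040, 32, [0, 1], 0x1000000000001⟩,
 ⟨0, 0, 0, 2, (sl 0x100020005000a0014005200d80021023603af), 0xa0004000a00040, 32, [0, 1], 0x1000000000001⟩]) (by decide +kernel)
theorem tb491 {I} : Cm 8 cb491.R I (N.M.E_eLd8.map Prod.fst) := .of_f fb491
theorem ib491 : InI 8 cb491.R I8 := Gh.inI (c := cb491) (by decide +kernel)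
theorem fb493 : ClF 8 cb493.R false (N.M.E_eLe3.map Prod.fst) :=
  Gh.clR bb493 sb493 N.M.E_eLe3_ok (vs := [⟨0, 0, 0, 0, (sl 0x10002000400080011006300d30021020903d2), 0xa0006000a00060, 32, [0], 0x1000000000001⟩]) (by decide +kernel)
theorem tb493 {I} : Cm 8 cb493.R I (N.M.E_eLe3.map Prod.fst) := .of_f fb493
theorem ib493 : InI 8 cb493.R I8 := Gh.inI (c := cb493) (by decide +kernel)
theorem fb511 : ClF 8 cb511.R false (N.M.E_eLc2.map Prod.fst) :=
  Gh.clR bb511 sb511 N.M.E_eLc2_ok (vs := [⟨0, 0, 0, 0, (sl 0x1000300090013004d000d003d00ff031c0492), 0x400020001000200150, 128, [0], 0x1000000000001⟩]) (by decide +kernel)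
theorem tb511 {I} : Cm 8 cb511.R I (N.M.E_eLc2.map Prod.fst) := .of_f fb511
theorem ib511 : InI 8 cb511.R I8 := Gh.inI (c := cb511) (by decide +kernel)
theorem fb519 : ClF 8 cb519.R false (N.M.E_eLd4.map Prod.fst) :=
  Gh.clR bb519 sb519 N.M.E_eLd4_ok (vs := [⟨0, 0, 0, 0, (sl 0x100020004000900120045003c00b8017703ec), 0x400020001000200150, 128, [0], 0x1000000000001⟩]) (by decide +kernel)
theorem tb519 {I} : Cm 8 cb519.R I (N.M.E_eLd4.map Prod.fst) := .of_f fb519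
theorem ib519 : InI 8 cb519.R I8 := Gh.inI (c := cb519) (by decide +kernel)
theorem fb529 : ClF 8 cb529.R false (N.M.E_dQ256.map Prod.fst) :=
  Gh.clR bb529 sb529 N.M.E_dQ256_ok (vs := [⟨0, 0, 0, 1, (sl 0x100020005000a0014002800f2004902500305), 0x40002000400020, 128, [0], 0x1000000000001⟩,
 ⟨0, 0, 0, 0, (sl 0x100020005000a0014002800f2004902500305), 0, 0, [1], 0⟩]) (by decide +kernel)
theorem tb529 {I} : Cm 8 cb529.R I (N.M.E_dQ256.map Prod.fst) := .of_f fb529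
theorem ib529 : InI 8 cb529.R I8 := Gh.inI (c := cb529) (by decide +kernel)
theorem fb530 : ClF 8 cb530.R false (N.M.E_dD256.map Prod.fst) :=
  Gh.clR bb530 sb530 N.M.E_dD256_ok (vs := [⟨0, 0, 0, 1, (sl 0x10002000400080011002300e7006d021d02de), 0x40002000400020, 128, [0], 0x1000000000001⟩,
 ⟨0, 0, 0, 0, (sl 0x10002000400080011002300e7006d021d02de), 0, 0, [1], 0⟩]) (by decide +kernel)
theorem tb530 {I} : Cm 8 cb530.R I (N.M.E_dD256.map Prod.fst) := .of_f fb530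
theorem ib530 : InI 8 cb530.R I8 := Gh.inI (c := cb530) (by decide +kernel)

noncomputable def lF8 : List ℕ := [cb133.R, cb255.R, cb257.R, cb260.R, cb261.R, cb265.R]
theorem aF8 : Cms 8 I7 lF8 :=
  .cons tb133 <| .cons tb255 <| .cons tb257 <| .cons tb260 <| .cons tb261 <| .cons tb265 <|
  .nil

end Cfsg.Agent.FS.NB.D
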