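import Cfsg.Agent.FS.N.B.Is
import Cfsg.Agent.FS.N.B.D.Nc0
import Cfsg.Agent.FS.N.B.D.Nc1
import Cfsg.Agent.FS.N.B.D.Nc2
import Cfsg.Agent.FS.N.B.D.Nc3
import Cfsg.Agent.FS.N.B.D.Nc4
import Cfsg.Agent.FS.N.B.D.Nc5
import Cfsg.Agent.FS.N.B.D.Nc6
import Cfsg.Agent.FS.N.M.L.d9
import Cfsg.Agent.FS.N.M.L.dHS
import Cfsg.Agent.FS.N.M.L.dL53
import Cfsg.Agent.FS.N.M.L.dON
import Cfsg.Agent.FS.N.M.L.dS63
import Cfsg.Agent.FS.N.M.L.eL433
import Cfsg.Agent.FS.N.M.L.eL450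
import Cfsg.Agent.FS.N.M.L.eL454
import Cfsg.Agent.FS.N.M.L.eL455
import Cfsg.Agent.FS.N.M.L.eLc7
import Cfsg.Agent.FS.N.M.L.eLd1
import Cfsg.Agent.FS.N.M.L.eLd2
import Cfsg.Agent.FS.N.M.L.eLd7
import Cfsg.Agent.FS.N.M.L.eLe1
import Cfsg.Agent.FS.N.M.L.eLe2
import Cfsg.Agent.FS.N.M.L.eLe5
import Cfsg.Agent.FS.N.M.L.eLf0
import Cfsg.Agent.FS.N.M.L.eLf1
import Cfsg.Agent.FS.N.M.L.eLf2
import Cfsg.Agent.FS.N.M.L.eS440
import Cfsg.Agent.FS.N.M.L.eS492
import Cfsg.Agent.FS.N.M.L.eWb3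
import Cfsg.Agent.FS.N.M.L.eWc0

set_option maxRecDepth 100000
set_option linter.all false
set_option Elab.async false

namespace Cfsg.Agent.FS.NB.D

theorem fc220 : ClF 9 cc220.R true [] :=
  Gh.clR bc220 sc220 (E := []) (fun _ h => nomatch h) (vs := [⟨0x20001000200010, 0x1000080004000800540, 0, 0, 0, 0, 0, [], 0⟩,
 ⟨0x20001000200010, 0x1000080004000800540, 0, 0, 0, 0, 0, [], 0⟩]) (by decide +kernel)
theorem tc220 : Cm 9 cc220.R I8 [] :=
  .of_p fc220 (Gh.clN (c := cc220) (by decide +kernel))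
theorem fc223 : ClF 9 cc223.R false [] :=
  Gh.clR bc223 sc223 (E := []) (fun _ h => nomatch h) (vs := [⟨0x1000080004000800540, 0x20001000200010, 0, 0, 0, 0, 0, [], 0⟩,
 ⟨0x1000080004000800540, 0x20001000200010, 0, 0, 0, 0, 0, [], 0⟩,
 ⟨0x140008001400080, 0x20001000200010, 0, 0, 0, 0, 0, [], 0⟩,
 ⟨0x140008001400080, 0x20001000200010, 0, 0, 0, 0, 0, [], 0⟩]) (by decide +kernel)
theorem tc223 {I} : Cm 9 cc223.R I [] := .of_f fc223
theorem fc262 : ClF 9 cc262.R false (N.M.E_eL454.map Prod.fst) :=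
  Gh.clR bc262 sc262 N.M.E_eL454_ok (vs := [⟨0, 0, 0, 0, (sl 0x1000300050066000d013801a601050024128a0e89), 0x10000900050003005500300, 16, [0], 0x1000000000001⟩]) (by decide +kernel)
theorem tc262 {I} : Cm 9 cc262.R I (N.M.E_eL454.map Prod.fst) := .of_f fc262
theorem ic262 : InI 9 cc262.R I9 := Gh.inI (c := cc262) (by decide +kernel)
theorem fc265 : ClF 9 cc265.R false (N.M.E_dS63.map Prod.fst) :=
  Gh.clR bc265 sc265 N.M.E_dS63_ok (vs := [⟨0, 0, 0, 0, (sl 0x10002003400250017003d012200b000fd067824bb), 0, 0, [0], 0⟩]) (by decide +kernel)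
theorem tc265 {I} : Cm 9 cc265.R I (N.M.E_dS63.map Prod.fst) := .of_f fc265
theorem ic265 : InI 9 cc265.R I9 := Gh.inI (c := cc265) (by decide +kernel)
theorem fc370 : ClF 9 cc370.R false [] :=
  Gh.clR bc370 sc370 (E := []) (fun _ h => nomatch h) (vs := [⟨0x80000800800008, 0x20000400200004, 0, 0, 0, 0, 0, [], 0⟩,
 ⟨0x100008001000080, 0x20000400200004, 0, 0, 0, 0, 0, [], 0⟩,
 ⟨0x100008001000080, 0x50002000500020, 0, 0, 0, 0, 0, [], 0⟩,
 ⟨0x100008001000080, 0x20000400200004, 0, 0, 0, 0, 0, [], 0⟩,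
 ⟨0x100008001000080, 0x20000400200004, 0, 0, 0, 0, 0, [], 0⟩,
 ⟨0x100008001000080, 0x20000400200004, 0, 0, 0, 0, 0, [], 0⟩,
 ⟨0x100008001000080, 0x50002000500020, 0, 0, 0, 0, 0, [], 0⟩,
 ⟨0x80000800800008, 0x50002000500020, 0, 0, 0, 0, 0, [], 0⟩]) (by decide +kernel)
theorem tc370 {I} : Cm 9 cc370.R I [] := .of_f fc370
theorem fc1091 : ClF 9 cc1091.R true [] :=
  Gh.clR bc1091 sc1091 (E := []) (fun _ h => nomatch h) (vs := [⟨0x100008001000080, 0x40002000400020, 0, 0, 0, 0, 0, [], 0⟩]) (by decide +kernel)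
theorem tc1091 : Cm 9 cc1091.R I8 [] :=
  .of_p fc1091 (Gh.clN (c := cc1091) (by decide +kernel))
theorem fc1093 : ClF 9 cc1093.R true [] :=
  Gh.clR bc1093 sc1093 (E := []) (fun _ h => nomatch h) (vs := [⟨0x100008001000080, 0x40002000400020, 0, 0, 0, 0, 0, [], 0⟩]) (by decide +kernel)
theorem tc1093 : Cm 9 cc1093.R I8 [] :=
  .of_p fc1093 (Gh.clN (c := cc1093) (by decide +kernel))
theorem fc1552 : ClF 9 cc1552.R false [] :=
  Gh.clR bc1552 sc1552 (E := []) (fun _ h => nomatch h) (vs := [⟨0xb4004100b40041, 0xa0004900a00049, 0, 0, 0, 0, 0, [], 0⟩]) (by decide +kernel)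
theorem tc1552 {I} : Cm 9 cc1552.R I [] := .of_f fc1552
theorem fc1674 : ClF 9 cc1674.R false (N.M.E_d9.map Prod.fst) :=
  Gh.clR bc1674 sc1674 N.M.E_d9_ok (vs := [⟨0, 0, 0, 0, (sl 0x100020009001100040101004b00820025082a08d6), 0, 0, [0, 1, 2], 0⟩,
 ⟨0, 0, 0, 0, (sl 0x100020009001100040101004b00820025082a08d6), 0, 0, [0, 1, 2], 0⟩,
 ⟨0, 0, 0, 0, (sl 0x100020009001100040101004b00820025082a08d6), 0, 0, [0, 1, 2], 0⟩]) (by decide +kernel)
theorem tc1674 {I} : Cm 9 cc1674.R I (N.M.E_d9.map Prod.fst) := .of_f fc1674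
theorem ic1674 : InI 9 cc1674.R I9 := Gh.inI (c := cc1674) (by decide +kernel)
theorem fc1998 : ClF 9 cc1998.R false (N.M.E_eWb3.map Prod.fst) :=
  Gh.clR bc1998 sc1998 N.M.E_eWb3_ok (vs := [⟨0, 0, 0, 0, (sl 0x100060002001f000a01c5008500c600e70f9407e5), 0x1000080004000800540, 32, [0, 1], 0x1000000000001⟩,
 ⟨0, 0, 0, 0, (sl 0x100060002001f000a01c5008500c600e70f9407e5), 0x1000080004000800540, 32, [0, 1], 0x1000000000001⟩]) (by decide +kernel)
theorem tc1998 {I} : Cm 9 cc1998.R I (N.M.E_eWb3.map Prod.fst) := .of_f fc1998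
theorem ic1998 : InI 9 cc1998.R I9 := Gh.inI (c := cc1998) (by decide +kernel)
theorem fc2029 : ClF 9 cc2029.R false (N.M.E_eL433.map Prod.fst) :=
  Gh.clR bc2029 sc2029 N.M.E_eL433_ok (vs := [⟨0x101001c0101001c, 0x109001801090018, 0x4000000000, 0, 0, 0, 0, [], 0⟩,
 ⟨0, 0, 0, 2, (sl 0x100020006001d00150109004400f7002309f308e3), 0x1000080004000800540, 32, [1, 2], 0x1000000000001⟩,
 ⟨0, 0, 0, 2, (sl 0x100020006001d00150109004400f7002309f308e3), 0x1000080004000800540, 32, [1, 2], 0x1000000000001⟩]) (by decide +kernel)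
theorem tc2029 {I} : Cm 9 cc2029.R I (N.M.E_eL433.map Prod.fst) := .of_f fc2029
theorem ic2029 : InI 9 cc2029.R I9 := Gh.inI (c := cc2029) (by decide +kernel)
theorem fc2034 : ClF 9 cc2034.R false (N.M.E_eL455.map Prod.fst) :=
  Gh.clR bc2034 sc2034 N.M.E_eL455_ok (vs := [⟨0, 0, 0, 0, (sl 0x100030006000d0044005d011d006200d904ef126d), 0x10000400020001005200150, 128, [0], 0x1000000000001⟩]) (by decide +kernel)
theorem tc2034 {I} : Cm 9 cc2034.R I (N.M.E_eL455.map Prod.fst) := .of_f fc2034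
theorem ic2034 : InI 9 cc2034.R I9 := Gh.inI (c := cc2034) (by decide +kernel)
theorem fc2312 : ClF 9 cc2312.R false [] :=
  Gh.clR bc2312 sc2312 (E := []) (fun _ h => nomatch h) (vs := [⟨0x80001000800010, 0x40002000400020, 0, 0, 0, 0, 0, [], 0⟩,
 ⟨0x100008001000080, 0x40002000400020, 0, 0, 0, 0, 0, [], 0⟩,
 ⟨0x80001000800010, 0x40002000400020, 0, 0, 0, 0, 0, [], 0⟩]) (by decide +kernel)
theorem tc2312 {I} : Cm 9 cc2312.R I [] := .of_f fc2312
theorem fc2313 : ClF 9 cc2313.R true [] :=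
  Gh.clR bc2313 sc2313 (E := []) (fun _ h => nomatch h) (vs := [⟨0x100008001000080, 0x40002000400020, 0, 0, 0, 0, 0, [], 0⟩]) (by decide +kernel)
theorem tc2313 : Cm 9 cc2313.R I8 [] :=
  .of_p fc2313 (Gh.clN (c := cc2313) (by decide +kernel))
theorem fc2316 : ClF 9 cc2316.R true [] :=
  Gh.clR bc2316 sc2316 (E := []) (fun _ h => nomatch h) (vs := [⟨0x100008001000080, 0x40002000400020, 0, 0, 0, 0, 0, [], 0⟩]) (by decide +kernel)
theorem tc2316 : Cm 9 cc2316.R I8 [] :=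
  .of_p fc2316 (Gh.clN (c := cc2316) (by decide +kernel))
theorem fc2317 : ClF 9 cc2317.R true [] :=
  Gh.clR bc2317 sc2317 (E := []) (fun _ h => nomatch h) (vs := [⟨0x100008001000080, 0x40002000400020, 0, 0, 0, 0, 0, [], 0⟩]) (by decide +kernel)
theorem tc2317 : Cm 9 cc2317.R I8 [] :=
  .of_p fc2317 (Gh.clN (c := cc2317) (by decide +kernel))
theorem fc2328 : ClF 9 cc2328.R true [] :=
  Gh.clR bc2328 sc2328 (E := []) (fun _ h => nomatch h) (vs := [⟨0x40002000400020, 0x100008001000080, 0, 0, 0, 0, 0, [], 0⟩]) (by decide +kernel)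
theorem tc2328 : Cm 9 cc2328.R I8 [] :=
  .of_p fc2328 (Gh.clN (c := cc2328) (by decide +kernel))
theorem fc2329 : ClF 9 cc2329.R true [] :=
  Gh.clR bc2329 sc2329 (E := []) (fun _ h => nomatch h) (vs := [⟨0x100008001000080, 0x40002000400020, 0, 0, 0, 0, 0, [], 0⟩]) (by decide +kernel)
theorem tc2329 : Cm 9 cc2329.R I8 [] :=
  .of_p fc2329 (Gh.clN (c := cc2329) (by decide +kernel))
theorem fc2911 : ClF 9 cc2911.R false (N.M.E_eL450.map Prod.fst) :=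
  Gh.clR bc2911 sc2911 N.M.E_eL450_ok (vs := [⟨0, 0, 0, 0, (sl 0x100020004000e004f005500be006b0169046c113b), 0x8000400020001002a00150, 256, [0], 0x1000000000002⟩]) (by decide +kernel)
theorem tc2911 {I} : Cm 9 cc2911.R I (N.M.E_eL450.map Prod.fst) := .of_f fc2911
theorem ic2911 : InI 9 cc2911.R I9 := Gh.inI (c := cc2911) (by decide +kernel)
theorem fc3219 : ClF 9 cc3219.R false (N.M.E_eLd1.map Prod.fst) :=
  Gh.clR bc3219 sc3219 N.M.E_eLd1_ok (vs := [⟨0, 0, 0, 0, (sl 0x1000300040011008600d30009002a01a007691348), 0x8000400020004002a0, 256, [0], 0x1000000000001⟩]) (by decide +kernel)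
theorem tc3219 {I} : Cm 9 cc3219.R I (N.M.E_eLd1.map Prod.fst) := .of_f fc3219
theorem ic3219 : InI 9 cc3219.R I9 := Gh.inI (c := cc3219) (by decide +kernel)
theorem fc3222 : ClF 9 cc3222.R false (N.M.E_eLc7.map Prod.fst) :=
  Gh.clR bc3222 sc3222 N.M.E_eLc7_ok (vs := [⟨0, 0, 0, 0, (sl 0x1000300070011005700d30009002a017907691001), 0x8000400020004002a0, 256, [0, 1], 0x1000000000001⟩,
 ⟨0, 0, 0, 0, (sl 0x1000300070011005700d30009002a017907691001), 0x8000400020004002a0, 256, [0, 1], 0x1000000000001⟩]) (by decide +kernel)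
theorem tc3222 {I} : Cm 9 cc3222.R I (N.M.E_eLc7.map Prod.fst) := .of_f fc3222
theorem ic3222 : InI 9 cc3222.R I9 := Gh.inI (c := cc3222) (by decide +kernel)
theorem fc3223 : ClF 9 cc3223.R false (N.M.E_eLe1.map Prod.fst) :=
  Gh.clR bc3223 sc3223 N.M.E_eLe1_ok (vs := [⟨0, 0, 0, 0, (sl 0x100030006000d001b00ad00ce002101af063e0db7), 0x8000400020004002a0, 256, [0], 0x1000000000001⟩]) (by decide +kernel)
theorem tc3223 {I} : Cm 9 cc3223.R I (N.M.E_eLe1.map Prod.fst) := .of_f fc3223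
theorem ic3223 : InI 9 cc3223.R I9 := Gh.inI (c := cc3223) (by decide +kernel)
theorem fc3224 : ClF 9 cc3224.R false (N.M.E_eLd7.map Prod.fst) :=
  Gh.clR bc3224 sc3224 N.M.E_eLd7_ok (vs := [⟨0, 0, 0, 0, (sl 0x100020006000f001d004300c60020012103e00d33), 0x8000400020004002a0, 256, [0, 1], 0x1000000000001⟩,
 ⟨0, 0, 0, 0, (sl 0x100020006000f001d004300c60020012103e00d33), 0x8000400020004002a0, 256, [0, 1], 0x1000000000001⟩]) (by decide +kernel)
theorem tc3224 {I} : Cm 9 cc3224.R I (N.M.E_eLd7.map Prod.fst) := .of_f fc3224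
theorem ic3224 : InI 9 cc3224.R I9 := Gh.inI (c := cc3224) (by decide +kernel)
theorem fc3239 : ClF 9 cc3239.R false (N.M.E_dHS.map Prod.fst) :=
  Gh.clR bc3239 sc3239 N.M.E_dHS_ok (vs := [⟨0, 0, 0, 0, (sl 0x1000200140012000f003200a20049011503ff11eb), 0, 0, [0], 0⟩]) (by decide +kernel)
theorem tc3239 {I} : Cm 9 cc3239.R I (N.M.E_dHS.map Prod.fst) := .of_f fc3239
theorem ic3239 : InI 9 cc3239.R I9 := Gh.inI (c := cc3239) (by decide +kernel)
theorem fc3250 : ClF 9 cc3250.R false [] :=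
  Gh.clR bc3250 sc3250 (E := []) (fun _ h => nomatch h) (vs := [⟨0x89002500890025, 0x81002000810020, 0x14000000000, 0, 0, 0, 0, [], 0⟩]) (by decide +kernel)
theorem tc3250 {I} : Cm 9 cc3250.R I [] := .of_f fc3250
theorem fc3256 : ClF 9 cc3256.R false (N.M.E_eS440.map Prod.fst) :=
  Gh.clR bc3256 sc3256 N.M.E_eS440_ok (vs := [⟨0, 0, 0, 0, (sl 0x700260001000300120127000b008c005b192813e8), 0x10000800010000805100288, 64, [0], 0x1000000000001⟩]) (by decide +kernel)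
theorem tc3256 {I} : Cm 9 cc3256.R I (N.M.E_eS440.map Prod.fst) := .of_f fc3256
theorem ic3256 : InI 9 cc3256.R I9 := Gh.inI (c := cc3256) (by decide +kernel)
theorem fc3326 : ClF 9 cc3326.R false (N.M.E_dON.map Prod.fst) :=
  Gh.clR bc3326 sc3326 N.M.E_dON_ok (vs := [⟨0, 0, 0, 0, (sl 0x100030009000c003a00120044010b00c104080e95), 0, 0, [0], 0⟩]) (by decide +kernel)
theorem tc3326 {I} : Cm 9 cc3326.R I (N.M.E_dON.map Prod.fst) := .of_f fc3326
theorem ic3326 : InI 9 cc3326.R I9 := Gh.inI (c := cc3326) (by decide +kernel)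
theorem fc3362 : ClF 9 cc3362.R false [] :=
  Gh.clR bc3362 sc3362 (E := []) (fun _ h => nomatch h) (vs := [⟨0x40000c0040000c, 0x50000800500008, 0, 0, 0, 0, 0, [], 0⟩]) (by decide +kernel)
theorem tc3362 {I} : Cm 9 cc3362.R I [] := .of_f fc3362
theorem fc3367 : ClF 9 cc3367.R false (N.M.E_dL53.map Prod.fst) :=
  Gh.clR bc3367 sc3367 N.M.E_dL53_ok (vs := [⟨0x41000c0041000c, 0x51000800510008, 0, 0, 0, 0, 0, [], 0⟩,
 ⟨0xa0004100a00041, 0x80005100800051, 0, 0, 0, 0, 0, [], 0⟩,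
 ⟨0, 0, 0, 0, (sl 0x1000300070008001d00530032010401e804e20b93), 0, 0, [2], 0⟩]) (by decide +kernel)
theorem tc3367 {I} : Cm 9 cc3367.R I (N.M.E_dL53.map Prod.fst) := .of_f fc3367
theorem ic3367 : InI 9 cc3367.R I9 := Gh.inI (c := cc3367) (by decide +kernel)
theorem fc3371 : ClF 9 cc3371.R false (N.M.E_eS492.map Prod.fst) :=
  Gh.clR bc3371 sc3371 N.M.E_eS492_ok (vs := [⟨0x41000c0041000c, 0x51000800510008, 0, 0, 0, 0, 0, [], 0⟩,
 ⟨0, 0, 0, 0, (sl 0x100030006000b003100110112004000c0031f1042), 0x1000040002000400520, 128, [1], 0x1000000000001⟩]) (by decide +kernel)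
theorem tc3371 {I} : Cm 9 cc3371.R I (N.M.E_eS492.map Prod.fst) := .of_f fc3371
theorem ic3371 : InI 9 cc3371.R I9 := Gh.inI (c := cc3371) (by decide +kernel)
theorem fc3374 : ClF 9 cc3374.R false (N.M.E_eLf1.map Prod.fst) :=
  Gh.clR bc3374 sc3374 N.M.E_eLf1_ok (vs := [⟨0, 0, 0, 0, (sl 0x100030007000f001f003e01560183011605a710a7), 0x14000c0014000c0, 64, [0], 0x1000000000001⟩]) (by decide +kernel)
theorem tc3374 {I} : Cm 9 cc3374.R I (N.M.E_eLf1.map Prod.fst) := .of_f fc3374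
theorem ic3374 : InI 9 cc3374.R I9 := Gh.inI (c := cc3374) (by decide +kernel)
theorem fc3376 : ClF 9 cc3376.R false (N.M.E_eLe5.map Prod.fst) :=
  Gh.clR bc3376 sc3376 N.M.E_eLe5_ok (vs := [⟨0, 0, 0, 2, (sl 0x100030007000f001f003f00aa0181004005aa0c75), 0x140008001400080, 64, [0, 1], 0x1000000000001⟩,
 ⟨0, 0, 0, 2, (sl 0x100030007000f001f003f00aa0181004005aa0c75), 0x140008001400080, 64, [0, 1], 0x1000000000001⟩]) (by decide +kernel)
theorem tc3376 {I} : Cm 9 cc3376.R I (N.M.E_eLe5.map Prod.fst) := .of_f fc3376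
theorem ic3376 : InI 9 cc3376.R I9 := Gh.inI (c := cc3376) (by decide +kernel)
theorem fc3456 : ClF 9 cc3456.R false (N.M.E_eWc0.map Prod.fst) :=
  Gh.clR bc3456 sc3456 N.M.E_eWc0_ok (vs := [⟨0, 0, 0, 0, (sl 0x100020006000a001b0049006d014500b004a60ad3), 0, 0, [0], 0⟩]) (by decide +kernel)
theorem tc3456 {I} : Cm 9 cc3456.R I (N.M.E_eWc0.map Prod.fst) := .of_f fc3456
theorem ic3456 : InI 9 cc3456.R I9 := Gh.inI (c := cc3456) (by decide +kernel)
theorem fc3462 : ClF 9 cc3462.R false (N.M.E_eLd2.map Prod.fst) :=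
  Gh.clR bc3462 sc3462 N.M.E_eLd2_ok (vs := [⟨0, 0, 0, 0, (sl 0x10003000600160036008e001d007301a806d60cde), 0x8000400020004002a0, 256, [0], 0x1000000000001⟩]) (by decide +kernel)
theorem tc3462 {I} : Cm 9 cc3462.R I (N.M.E_eLd2.map Prod.fst) := .of_f fc3462
theorem ic3462 : InI 9 cc3462.R I9 := Gh.inI (c := cc3462) (by decide +kernel)
theorem fc3483 : ClF 9 cc3483.R false (N.M.E_eLe2.map Prod.fst) :=
  Gh.clR bc3483 sc3483 N.M.E_eLe2_ok (vs := [⟨0, 0, 0, 0, (sl 0x100030007000e001c003800d0007d01fc046a0ea4), 0x8000400020004002a0, 256, [0], 0x1000000000001⟩]) (by decide +kernel)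
theorem tc3483 {I} : Cm 9 cc3483.R I (N.M.E_eLe2.map Prod.fst) := .of_f fc3483
theorem ic3483 : InI 9 cc3483.R I9 := Gh.inI (c := cc3483) (by decide +kernel)
theorem fc3491 : ClF 9 cc3491.R false (N.M.E_eLf0.map Prod.fst) :=
  Gh.clR bc3491 sc3491 N.M.E_eLf0_ok (vs := [⟨0, 0, 0, 1, (sl 0x100030007000e001d003a007400ab019804a20c8d), 0x80004000800040, 256, [0], 0x1000000000001⟩,
 ⟨0, 0, 0, 0, (sl 0x100030007000e001d003a00740161019805580c8d), 0, 0, [1], 0⟩]) (by decide +kernel)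
theorem tc3491 {I} : Cm 9 cc3491.R I (N.M.E_eLf0.map Prod.fst) := .of_f fc3491
theorem ic3491 : InI 9 cc3491.R I9 := Gh.inI (c := cc3491) (by decide +kernel)
theorem fc3492 : ClF 9 cc3492.R false (N.M.E_eLf2.map Prod.fst) :=
  Gh.clR bc3492 sc3492 N.M.E_eLf2_ok (vs := [⟨0, 0, 0, 1, (sl 0x100020005000b0016002d005a00a5016e03930a38), 0x80004000800040, 256, [0], 0x1000000000001⟩,
 ⟨0, 0, 0, 0, (sl 0x100020005000b0016002d005a00a5016e03930a38), 0, 0, [1], 0⟩]) (by decide +kernel)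
theorem tc3492 {I} : Cm 9 cc3492.R I (N.M.E_eLf2.map Prod.fst) := .of_f fc3492
theorem ic3492 : InI 9 cc3492.R I9 := Gh.inI (c := cc3492) (by decide +kernel)

noncomputable def lF9 : List ℕ := [cc220.R, cc223.R, cc370.R, cc1091.R, cc1093.R, cc1552.R, cc2312.R, cc2313.R, cc2316.R, cc2317.R, cc2328.R, cc2329.R,
 cc3250.R, cc3362.R]
theorem aF9 : Cms 9 I8 lF9 :=
  .cons tc220 <| .cons tc223 <| .cons tc370 <| .cons tc1091 <| .cons tc1093 <| .cons tc1552 <|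
  .cons tc2312 <| .cons tc2313 <| .cons tc2316 <| .cons tc2317 <| .cons tc2328 <| .cons tc2329 <|
  .cons tc3250 <| .cons tc3362 <| .nil

end Cfsg.Agent.FS.NB.D
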