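import Cfsg.Agent.FS.N.B.D.Nd1
import Cfsg.Agent.FS.N.B.D.Nd2
import Cfsg.Agent.FS.N.B.D.Nd3

set_option maxRecDepth 100000
set_option linter.all false
set_option Elab.async false

namespace Cfsg.Agent.FS.NB.D

theorem sc3358_0 : cc3358.NCs uc3358_1 :=
  Gh.stepC bc3358 Gh.nil (.nil) oc3358_0
theorem sc3358_1 : cc3358.NCs uc3358_2 :=
  Gh.stepC bc3358 sc3358_0 (.nil) oc3358_1
theorem sc3358_2 : cc3358.NCs uc3358_3 :=
  Gh.stepC bc3358 sc3358_1 (.nil) oc3358_2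
theorem sc3358_3 : cc3358.NCs uc3358_4 :=
  Gh.stepC bc3358 sc3358_2 (.nil) oc3358_3
theorem sc3358_4 : cc3358.NCs uc3358_5 :=
  Gh.stepC bc3358 sc3358_3 (.nil) oc3358_4
theorem sc3358_5 : cc3358.NCs uc3358_6 :=
  Gh.stepC bc3358 sc3358_4 (.nil) oc3358_5
theorem sc3358_6 : cc3358.NCs uc3358_7 :=
  Gh.stepC bc3358 sc3358_5 (.nil) oc3358_6
theorem sc3358_7 : cc3358.NCs uc3358_8 :=
  Gh.stepC bc3358 sc3358_6 (.nil) oc3358_7
theorem sc3358_8 : cc3358.NCs uc3358_9 :=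
  Gh.stepC bc3358 sc3358_7 (.nil) oc3358_8
theorem sc3358_9 : cc3358.NCs uc3358_10 :=
  Gh.stepC bc3358 sc3358_8 (.nil) oc3358_9
theorem sc3358_10 : cc3358.NCs uc3358_11 :=
  Gh.stepC bc3358 sc3358_9 (.nil) oc3358_10
theorem sc3358_11 : cc3358.NCs uc3358_12 :=
  Gh.stepC bc3358 sc3358_10 (.nil) oc3358_11
theorem sc3358_12 : cc3358.NCs uc3358_13 :=
  Gh.stepC bc3358 sc3358_11 (.nil) oc3358_12
theorem sc3358_13 : cc3358.NCs uc3358_14 :=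
  Gh.stepC bc3358 sc3358_12 (.nil) oc3358_13
theorem sc3358_14 : cc3358.NCs uc3358_15 :=
  Gh.stepC bc3358 sc3358_13 (.nil) oc3358_14
theorem sc3358_15 : cc3358.NCs uc3358_16 :=
  Gh.stepC bc3358 sc3358_14 (.nil) oc3358_15
theorem sc3358_16 : cc3358.NCs uc3358_17 :=
  Gh.stepC bc3358 sc3358_15 (.nil) oc3358_16
theorem sc3358_17 : cc3358.NCs uc3358_18 :=
  Gh.stepC bc3358 sc3358_16 (.nil) oc3358_17
theorem sc3358_18 : cc3358.NCs uc3358_19 :=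
  Gh.stepC bc3358 sc3358_17 (.nil) oc3358_18
theorem sc3358_19 : cc3358.NCs uc3358_20 :=
  Gh.stepC bc3358 sc3358_18 (.nil) oc3358_19
theorem sc3358_20 : cc3358.NCs uc3358_21 :=
  Gh.stepC bc3358 sc3358_19 (.nil) oc3358_20
theorem sc3358_21 : cc3358.NCs uc3358_22 :=
  Gh.stepC bc3358 sc3358_20 (.nil) oc3358_21
theorem sc3358_22 : cc3358.NCs uc3358_23 :=
  Gh.stepC bc3358 sc3358_21 (.nil) oc3358_22
theorem sc3358_23 : cc3358.NCs uc3358_24 :=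
  Gh.stepC bc3358 sc3358_22 (.nil) oc3358_23
theorem sc3358_24 : cc3358.NCs uc3358_25 :=
  Gh.stepC bc3358 sc3358_23 (.nil) oc3358_24
theorem sc3358_25 : cc3358.NCs uc3358_26 :=
  Gh.stepC bc3358 sc3358_24 (.nil) oc3358_25
theorem sc3358_26 : cc3358.NCs uc3358_27 :=
  Gh.stepC bc3358 sc3358_25 (.nil) oc3358_26
theorem sc3358_27 : cc3358.NCs uc3358_28 :=
  Gh.stepC bc3358 sc3358_26 (.nil) oc3358_27
theorem sc3358_28 : cc3358.NCs uc3358_29 :=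
  Gh.stepC bc3358 sc3358_27 (.nil) oc3358_28
theorem sc3358_29 : cc3358.NCs uc3358_30 :=
  Gh.stepC bc3358 sc3358_28 (.nil) oc3358_29
theorem sc3358_30 : cc3358.NCs uc3358_31 :=
  Gh.stepC bc3358 sc3358_29 (.nil) oc3358_30
theorem sc3358_31 : cc3358.NCs uc3358_32 :=
  Gh.stepC bc3358 sc3358_30 (.nil) oc3358_31
theorem sc3358_32 : cc3358.NCs uc3358_33 :=
  Gh.stepC bc3358 sc3358_31 (.nil) oc3358_32
theorem sc3358_33 : cc3358.NCs uc3358_34 :=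
  Gh.stepC bc3358 sc3358_32 (.nil) oc3358_33
theorem sc3358_34 : cc3358.NCs uc3358_35 :=
  Gh.stepC bc3358 sc3358_33 (.nil) oc3358_34
theorem sc3358_35 : cc3358.NCs uc3358_36 :=
  Gh.stepC bc3358 sc3358_34 (.nil) oc3358_35
theorem sc3358_36 : cc3358.NCs uc3358_37 :=
  Gh.stepC bc3358 sc3358_35 (.nil) oc3358_36
theorem sc3358_37 : cc3358.NCs uc3358_38 :=
  Gh.stepC bc3358 sc3358_36 (.nil) oc3358_37
theorem sc3358_38 : cc3358.NCs uc3358_39 :=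
  Gh.stepC bc3358 sc3358_37 (.nil) oc3358_38
theorem sc3358_39 : cc3358.NCs uc3358_40 :=
  Gh.stepC bc3358 sc3358_38 (.nil) oc3358_39
theorem sc3358_40 : cc3358.NCs uc3358_41 :=
  Gh.stepC bc3358 sc3358_39 (.nil) oc3358_40
theorem sc3358_41 : cc3358.NCs uc3358_42 :=
  Gh.stepC bc3358 sc3358_40 (.nil) oc3358_41
theorem sc3358_42 : cc3358.NCs uc3358_43 :=
  Gh.stepC bc3358 sc3358_41 (.nil) oc3358_42
theorem sc3358_43 : cc3358.NCs uc3358_44 :=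
  Gh.stepC bc3358 sc3358_42 (.nil) oc3358_43
theorem sc3358_44 : cc3358.NCs uc3358_45 :=
  Gh.stepC bc3358 sc3358_43 (.nil) oc3358_44
theorem sc3358_45 : cc3358.NCs uc3358_46 :=
  Gh.stepC bc3358 sc3358_44 (.nil) oc3358_45
theorem sc3358_46 : cc3358.NCs uc3358_47 :=
  Gh.stepC bc3358 sc3358_45 (.nil) oc3358_46
theorem sc3358_47 : cc3358.NCs uc3358_48 :=
  Gh.stepC bc3358 sc3358_46 (.nil) oc3358_47
theorem sc3358_48 : cc3358.NCs uc3358_49 :=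
  Gh.stepC bc3358 sc3358_47 (.nil) oc3358_48
theorem sc3358_49 : cc3358.NCs uc3358_50 :=
  Gh.stepC bc3358 sc3358_48 (.nil) oc3358_49
theorem sc3358_50 : cc3358.NCs uc3358_51 :=
  Gh.stepC bc3358 sc3358_49 (.nil) oc3358_50
noncomputable def lc3358 : List (List ℕ) := uc3358_51
theorem sc3358 : cc3358.NCs lc3358 := sc3358_50

end Cfsg.Agent.FS.NB.D
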