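import Cfsg.Agent.FS.N.B.D.Ne1
import Cfsg.Agent.FS.N.B.D.Ne2
import Cfsg.Agent.FS.N.B.D.Ne3
import Cfsg.Agent.FS.N.B.D.Ne4
import Cfsg.Agent.FS.N.B.D.Ne5
import Cfsg.Agent.FS.N.B.D.Ne6
import Cfsg.Agent.FS.N.B.D.Ne7
import Cfsg.Agent.FS.N.B.D.Ne8
import Cfsg.Agent.FS.N.B.D.Ne9
import Cfsg.Agent.FS.N.B.D.Ne10
import Cfsg.Agent.FS.N.B.D.Ne11
import Cfsg.Agent.FS.N.B.D.Ne12
import Cfsg.Agent.FS.N.B.D.Ne13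
import Cfsg.Agent.FS.N.B.D.Ne14
import Cfsg.Agent.FS.N.B.D.Ne15
import Cfsg.Agent.FS.N.B.D.Ne16
import Cfsg.Agent.FS.N.B.D.Ne17
import Cfsg.Agent.FS.N.B.D.Ne18
import Cfsg.Agent.FS.N.B.D.Ne19
import Cfsg.Agent.FS.N.B.D.Ne20
import Cfsg.Agent.FS.N.B.D.Ne21
import Cfsg.Agent.FS.N.B.D.Ne22
import Cfsg.Agent.FS.N.B.D.Ne23
import Cfsg.Agent.FS.N.B.D.Ne24

set_option maxRecDepth 100000
set_option linter.all false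
set_option Elab.async false

namespace Cfsg.Agent.FS.NB.D

theorem sx0_0 : cx0.NCs ux0_1 :=
  Gh.stepC bx0 Gh.nil (.nil) ox0_0
theorem sx0_1 : cx0.NCs ux0_2 :=
  Gh.stepC bx0 sx0_0 (.cons (.cons (.nil) qx0_1_0 <| .cons (.nil) qx0_1_1 <| .cons (.nil) qx0_1_2 <| .cons (.nil) qx0_1_3 <| .cons (.nil) qx0_1_4 <| .cons (.nil) qx0_1_5 <| .cons (.nil) qx0_1_6 <| .cons (.nil) qx0_1_7 <| .cons (.nil) qx0_1_8 <| .cons (.nil) qx0_1_9 <| .nil) qx0_1_10 <| .cons (.nil) qx0_1_11 <| .nil) ox0_1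
theorem sx0_2 : cx0.NCs ux0_3 :=
  Gh.stepC bx0 sx0_1 (.nil) ox0_2
theorem sx0_3 : cx0.NCs ux0_4 :=
  Gh.stepC bx0 sx0_2 (.cons (.nil) qx0_3_0 <| .cons (.nil) qx0_3_1 <| .cons (.nil) qx0_3_2 <| .nil) ox0_3
theorem sx0_4 : cx0.NCs ux0_5 :=
  Gh.stepC bx0 sx0_3 (.cons (.cons (.nil) qx0_4_0 <| .cons (.nil) qx0_4_1 <| .cons (.nil) qx0_4_2 <| .cons (.nil) qx0_4_3 <| .cons (.nil) qx0_4_4 <| .cons (.nil) qx0_4_5 <| .cons (.nil) qx0_4_6 <| .cons (.nil) qx0_4_7 <| .cons (.nil) qx0_4_8 <| .nil) qx0_4_9 <| .nil) ox0_4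
theorem sx0_5 : cx0.NCs ux0_6 :=
  Gh.stepC bx0 sx0_4 (.cons (.cons (.nil) qx0_5_0 <| .cons (.nil) qx0_5_1 <| .cons (.nil) qx0_5_2 <| .cons (.nil) qx0_5_3 <| .cons (.nil) qx0_5_4 <| .cons (.nil) qx0_5_5 <| .cons (.nil) qx0_5_6 <| .nil) qx0_5_7 <| .nil) ox0_5
theorem sx0_6 : cx0.NCs ux0_7 :=
  Gh.stepC bx0 sx0_5 (.cons (.cons (.nil) qx0_6_0 <| .cons (.nil) qx0_6_1 <| .cons (.nil) qx0_6_2 <| .cons (.nil) qx0_6_3 <| .cons (.nil) qx0_6_4 <| .cons (.nil) qx0_6_5 <| .cons (.nil) qx0_6_6 <| .cons (.nil) qx0_6_7 <| .cons (.nil) qx0_6_8 <| .nil) qx0_6_9 <| .cons (.nil) qx0_6_10 <| .nil) ox0_6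
theorem sx0_7 : cx0.NCs ux0_8 :=
  Gh.stepC bx0 sx0_6 (.cons (.cons (.nil) qx0_7_0 <| .cons (.nil) qx0_7_1 <| .cons (.nil) qx0_7_2 <| .cons (.nil) qx0_7_3 <| .cons (.nil) qx0_7_4 <| .cons (.nil) qx0_7_5 <| .nil) qx0_7_6 <| .cons (.nil) qx0_7_7 <| .nil) ox0_7
theorem sx0_8 : cx0.NCs ux0_9 :=
  Gh.stepC bx0 sx0_7 (.cons (.cons (.nil) qx0_8_0 <| .cons (.nil) qx0_8_1 <| .cons (.nil) qx0_8_2 <| .cons (.nil) qx0_8_3 <| .cons (.nil) qx0_8_4 <| .cons (.nil) qx0_8_5 <| .nil) qx0_8_6 <| .cons (.nil) qx0_8_7 <| .nil) ox0_8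
theorem sx0_9 : cx0.NCs ux0_10 :=
  Gh.stepC bx0 sx0_8 (.cons (.cons (.nil) qx0_9_1 <| .cons (.nil) qx0_9_2 <| .cons (.nil) qx0_9_3 <| .cons (.nil) qx0_9_4 <| .cons (.nil) qx0_9_5 <| .cons (.nil) qx0_9_6 <| .cons (.nil) qx0_9_7 <| .cons (.nil) qx0_9_8 <| .cons (.nil) qx0_9_9 <| .cons (.nil) qx0_9_10 <| .cons (.nil) qx0_9_11 <| .cons (.nil) qx0_9_12 <| .nil) qx0_9_13 <| .cons (.cons (.nil) qx0_9_0 <| .nil) qx0_9_14 <| .nil) ox0_9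
theorem sx0_10 : cx0.NCs ux0_11 :=
  Gh.stepC bx0 sx0_9 (.cons (.cons (.nil) qx0_10_0 <| .cons (.nil) qx0_10_1 <| .cons (.nil) qx0_10_2 <| .cons (.nil) qx0_10_3 <| .cons (.nil) qx0_10_4 <| .cons (.nil) qx0_10_5 <| .cons (.nil) qx0_10_6 <| .cons (.nil) qx0_10_7 <| .cons (.nil) qx0_10_8 <| .cons (.nil) qx0_10_9 <| .cons (.nil) qx0_10_10 <| .nil) qx0_10_11 <| .nil) ox0_10
theorem sx0_11 : cx0.NCs ux0_12 :=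
  Gh.stepC bx0 sx0_10 (.nil) ox0_11
theorem sx0_12 : cx0.NCs ux0_13 :=
  Gh.stepC bx0 sx0_11 (.nil) ox0_12
noncomputable def lx0 : List (List ℕ) := ux0_13
theorem sx0 : cx0.NCs lx0 := sx0_12

end Cfsg.Agent.FS.NB.D
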