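import Cfsg.Agent.FS.N.B.Is
import Cfsg.Agent.FS.N.B.D.Nd4
import Cfsg.Agent.FS.N.B.D.Ne25
import Cfsg.Agent.FS.N.M.L.dL47
import Cfsg.Agent.FS.N.M.L.dW3

set_option maxRecDepth 100000
set_option linter.all false
set_option Elab.async false

namespace Cfsg.Agent.FS.NB.D

theorem fc3358 : ClF 9 cc3358.R false (N.M.E_dL47.map Prod.fst) :=
  Gh.clR bc3358 sc3358 N.M.E_dL47_ok (vs := [⟨0x40000c0040000c, 0x50000800500008, 0, 0, 0, 0, 0, [], 0⟩,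
 ⟨0xa0004000a00040, 0x80005000800050, 0, 0, 0, 0, 0, [], 0⟩,
 ⟨0, 0, 0, 1, (sl 0x100030004000f002f008a0015004f011705ef0a7c), 0x1000040002000400520, 128, [2], 0x1000000000001⟩,
 ⟨0, 0, 0, 0, (sl 0x100030004000f002f008a0015004f011705ef0a7c), 0, 0, [3], 0⟩]) (by decide +kernel)
theorem tc3358 {I} : Cm 9 cc3358.R I (N.M.E_dL47.map Prod.fst) := .of_f fc3358
theorem ic3358 : InI 9 cc3358.R I9 := Gh.inI (c := cc3358) (by decide +kernel)
theorem fx0 : ClF 9 cx0.R false (N.M.E_dW3.map Prod.fst) :=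
  Gh.clR bx0 sx0 N.M.E_dW3_ok (vs := [⟨0, 0, 0, 0, (sl 0x400010002002500430010010600090085047316ec), 0, 0, [0], 0⟩,
 ⟨0x40000800400008, 0x10000800020001005200290, 0, 0, 0, 0, 0, [], 0⟩]) (by decide +kernel)
theorem tx0 {I} : Cm 9 cx0.R I (N.M.E_dW3.map Prod.fst) := .of_f fx0
theorem ix0 : InI 9 cx0.R I9 := Gh.inI (c := cx0) (by decide +kernel)

end Cfsg.Agent.FS.NB.D
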