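import Cfsg.Agent.FS.N.B.D.Nf1
import Cfsg.Agent.FS.N.B.D.Nf2
import Cfsg.Agent.FS.N.B.D.Nf3
import Cfsg.Agent.FS.N.B.D.Nf4

set_option maxRecDepth 100000
set_option linter.all false
set_option Elab.async false

namespace Cfsg.Agent.FS.NB.D

noncomputable def vx1_0_0 : List (ℕ × ℕ × ℕ) := aftI ix1_0_0 []
theorem wx1_0_0 : cx1.PC ux1_0 hx1_0 vx1_0_0 := Gh.PC.more Gh.PC.nil qx1_0_0 (by decide +kernel)
noncomputable def vx1_0_1 : List (ℕ × ℕ × ℕ) := aftI ix1_0_1 vx1_0_0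
theorem wx1_0_1 : cx1.PC ux1_0 hx1_0 vx1_0_1 := Gh.PC.more wx1_0_0 qx1_0_1 (by decide +kernel)
theorem sx1_0 : cx1.NCs ux1_1 :=
  Gh.stepC bx1 Gh.nil (Gh.PC.sub wx1_0_1 (by decide +kernel)) ox1_0
noncomputable def vx1_1_0 : List (ℕ × ℕ × ℕ) := aftI ix1_1_0 []
theorem wx1_1_0 : cx1.PC ux1_1 hx1_1 vx1_1_0 := Gh.PC.more Gh.PC.nil qx1_1_0 (by decide +kernel)
noncomputable def vx1_1_1 : List (ℕ × ℕ × ℕ) := aftI ix1_1_1 vx1_1_0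
theorem wx1_1_1 : cx1.PC ux1_1 hx1_1 vx1_1_1 := Gh.PC.more wx1_1_0 qx1_1_1 (by decide +kernel)
theorem sx1_1 : cx1.NCs ux1_2 :=
  Gh.stepC bx1 sx1_0 (Gh.PC.sub wx1_1_1 (by decide +kernel)) ox1_1
theorem sx1_2 : cx1.NCs ux1_3 :=
  Gh.stepC bx1 sx1_1 Gh.PC.nil ox1_2
noncomputable def vx1_3_0 : List (ℕ × ℕ × ℕ) := aftI ix1_3_0 []
theorem wx1_3_0 : cx1.PC ux1_3 hx1_3 vx1_3_0 := Gh.PC.more Gh.PC.nil qx1_3_0 (by decide +kernel)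
theorem sx1_3 : cx1.NCs ux1_4 :=
  Gh.stepC bx1 sx1_2 (Gh.PC.sub wx1_3_0 (by decide +kernel)) ox1_3
theorem sx1_4 : cx1.NCs ux1_5 :=
  Gh.stepC bx1 sx1_3 Gh.PC.nil ox1_4
noncomputable def vx1_5_0 : List (ℕ × ℕ × ℕ) := aftI ix1_5_0 []
theorem wx1_5_0 : cx1.PC ux1_5 hx1_5 vx1_5_0 := Gh.PC.more Gh.PC.nil qx1_5_0 (by decide +kernel)
theorem sx1_5 : cx1.NCs ux1_6 :=
  Gh.stepC bx1 sx1_4 (Gh.PC.sub wx1_5_0 (by decide +kernel)) ox1_5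
noncomputable def lx1 : List (List ℕ) := ux1_6
theorem sx1 : cx1.NCs lx1 := sx1_5

end Cfsg.Agent.FS.NB.D
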