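import Cfsg.Agent.FS.N.B.Is
import Cfsg.Agent.FS.N.B.D.Nf5
import Cfsg.Agent.FS.N.M.L.dL38

set_option maxRecDepth 100000
set_option linter.all false
set_option Elab.async false

namespace Cfsg.Agent.FS.NB.D

theorem fx1 : ClF 9 cx1.R false (N.M.E_dL38.map Prod.fst) :=
  Gh.clR bx1 sx1 N.M.E_dL38_ok (vs := [⟨0, 0, 0, 0, (sl 0x300060001003e00100035004100c501450aca0bea), 0, 0, [0, 1], 0⟩,
 ⟨0, 0, 0, 0, (sl 0x300060001003e00100035004100c501450aca0bea), 0, 0, [0, 1], 0⟩]) (by decide +kernel)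
theorem tx1 {I} : Cm 9 cx1.R I (N.M.E_dL38.map Prod.fst) := .of_f fx1
theorem ix1 : InI 9 cx1.R I9 := Gh.inI (c := cx1) (by decide +kernel)

end Cfsg.Agent.FS.NB.D
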