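import Cfsg.Agent.FS.N.B.D.A0
import Cfsg.Agent.FS.N.B.D.A1
import Cfsg.Agent.FS.N.B.D.A2
import Cfsg.Agent.FS.N.B.D.A3
import Cfsg.Agent.FS.N.B.D.F3
import Cfsg.Agent.FS.N.B.D.F4
import Cfsg.Agent.FS.N.B.D.F5
import Cfsg.Agent.FS.N.B.D.F6
import Cfsg.Agent.FS.N.B.D.F7
import Cfsg.Agent.FS.N.M.All
import Cfsg.Agent.FS.N.A.Hl

set_option maxRecDepth 100000
set_option linter.all false
set_option Elab.async false

namespace Cfsg.Agent.FS.NB.D

noncomputable def el3 : List ℕ := []
theorem ea3 : Clf 3 el3 := .nil
noncomputable def xl3 : List ℕ := []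
theorem xa3 : Cms 3 [] xl3 := .nil
noncomputable def rl3 : List ℕ := [ca0.R]
theorem ra3 : Crs 3 [] I3 (N.M.Ents3.map Prod.fst) rl3 :=
  .cons ta0 (fun _ h => List.map_subset _ (show N.M.E_dD8 ⊆ N.M.Ents3 from (List.Subset.refl _)) h) ia0 <|
  .nil
theorem lev3 : N.Lev 3 (N.M.Ents3.map Prod.fst) ∧ N.LevI 3 I3 :=
  lev_of2 (gl := N.A.gl 3) (N.A.hl_old (by decide) (by decide)) N.A.levI2 ea3 xa3 ra3 (by decide +kernel)

noncomputable def el4 : List ℕ := lA0
theorem ea4 : Clf 4 el4 := aA0
noncomputable def xl4 : List ℕ := []
theorem xa4 : Cms 4 I3 xl4 := .nil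
noncomputable def rl4 : List ℕ := [ca1.R, ca3.R, ca4.R]
theorem ra4 : Crs 4 I3 I4 (N.M.Ents4.map Prod.fst) rl4 :=
  .cons ta1 (fun _ h => List.map_subset _ (show N.M.E_eLa1 ⊆ N.M.Ents4 from (List.subset_append_of_subset_right _ (List.subset_append_left _ _))) h) ia1 <|
  .cons ta3 (fun _ h => List.map_subset _ (show N.M.E_dQ16 ⊆ N.M.Ents4 from (List.subset_append_of_subset_right _ (List.subset_append_of_subset_right _ (List.Subset.refl _)))) h) ia3 <|
  .cons ta4 (fun _ h => List.map_subset _ (show N.M.E_dD16 ⊆ N.M.Ents4 from (List.subset_append_left _ _)) h) ia4 <|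
  .nil
theorem lev4 : N.Lev 4 (N.M.Ents4.map Prod.fst) ∧ N.LevI 4 I4 :=
  lev_of2 (gl := N.A.gl 4) (N.A.hl_old (by decide) (by decide)) lev3.2 ea4 xa4 ra4 (by decide +kernel)

noncomputable def el5 : List ℕ := lA1
theorem ea5 : Clf 5 el5 := aA1
noncomputable def xl5 : List ℕ := []
theorem xa5 : Cms 5 I4 xl5 := .nil
noncomputable def rl5 : List ℕ := [ca7.R, ca9.R, ca12.R, ca13.R, ca14.R]
theorem ra5 : Crs 5 I4 I5 (N.M.Ents5.map Prod.fst) rl5 :=
  .cons ta7 (fun _ h => List.map_subset _ (show N.M.E_eLa3 ⊆ N.M.Ents5 from (List.subset_append_left _ _)) h) ia7 <|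
  .cons ta9 (fun _ h => List.map_subset _ (show N.M.E_eLb3 ⊆ N.M.Ents5 from (List.subset_append_of_subset_right _ (List.subset_append_of_subset_right _ (List.subset_append_left _ _)))) h) ia9 <|
  .cons ta12 (fun _ h => List.map_subset _ (show N.M.E_dW32 ⊆ N.M.Ents5 from (List.subset_append_of_subset_right _ (List.subset_append_of_subset_right _ (List.subset_append_of_subset_right _ (List.subset_append_of_subset_right _ (List.Subset.refl _)))))) h) ia12 <|
  .cons ta13 (fun _ h => List.map_subset _ (show N.M.E_dQ32 ⊆ N.M.Ents5 from (List.subset_append_of_subset_right _ (List.subset_append_of_subset_right _ (List.subset_append_of_subset_right _ (List.subset_append_left _ _))))) h) ia13 <|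
  .cons ta14 (fun _ h => List.map_subset _ (show N.M.E_dD32 ⊆ N.M.Ents5 from (List.subset_append_of_subset_right _ (List.subset_append_left _ _))) h) ia14 <|
  .nil
theorem lev5 : N.Lev 5 (N.M.Ents5.map Prod.fst) ∧ N.LevI 5 I5 :=
  lev_of2 (gl := N.A.gl 5) (N.A.hl_old (by decide) (by decide)) lev4.2 ea5 xa5 ra5 (by decide +kernel)

noncomputable def el6 : List ℕ := lA2
theorem ea6 : Clf 6 el6 := aA2
noncomputable def xl6 : List ℕ := lF6
theorem xa6 : Cms 6 I5 xl6 := aF6
noncomputable def rl6 : List ℕ := [ca23.R, ca28.R, ca29.R, ca30.R, ca33.R, ca35.R, ca37.R, ca41.R, ca42.R]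
theorem ra6 : Crs 6 I5 I6 (N.M.Ents6.map Prod.fst) rl6 :=
  .cons ta23 (fun _ h => List.map_subset _ (show N.M.E_dU34 ⊆ N.M.Ents6 from (List.subset_append_of_subset_right _ (List.subset_append_of_subset_right _ (List.subset_append_of_subset_right _ (List.subset_append_of_subset_right _ (List.subset_append_of_subset_right _ (List.subset_append_of_subset_right _ (List.subset_append_of_subset_right _ (List.subset_append_left _ _))))))))) h) ia23 <|
  .cons ta28 (fun _ h => List.map_subset _ (show N.M.E_eLb1 ⊆ N.M.Ents6 from (List.subset_append_left _ _)) h) ia28 <|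
  .cons ta29 (fun _ h => List.map_subset _ (show N.M.E_dM12 ⊆ N.M.Ents6 from (List.subset_append_of_subset_right _ (List.subset_append_of_subset_right _ (List.subset_append_of_subset_right _ (List.subset_append_of_subset_right _ (List.subset_append_of_subset_right _ (List.subset_append_of_subset_right _ (List.subset_append_left _ _)))))))) h) ia29 <|
  .cons ta30 (fun _ h => List.map_subset _ (show N.M.E_dU42 ⊆ N.M.Ents6 from (List.subset_append_of_subset_right _ (List.subset_append_of_subset_right _ (List.subset_append_of_subset_right _ (List.subset_append_of_subset_right _ (List.subset_append_of_subset_right _ (List.subset_append_of_subset_right _ (List.subset_append_of_subset_right _ (List.subset_append_of_subset_right _ (List.Subset.refl _)))))))))) h) ia30 <|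
  .cons ta33 (fun _ h => List.map_subset _ (show N.M.E_eLb6 ⊆ N.M.Ents6 from (List.subset_append_of_subset_right _ (List.subset_append_of_subset_right _ (List.subset_append_left _ _)))) h) ia33 <|
  .cons ta35 (fun _ h => List.map_subset _ (show N.M.E_eLc5 ⊆ N.M.Ents6 from (List.subset_append_of_subset_right _ (List.subset_append_of_subset_right _ (List.subset_append_of_subset_right _ (List.subset_append_of_subset_right _ (List.subset_append_left _ _)))))) h) ia35 <|
  .cons ta37 (fun _ h => List.map_subset _ (show N.M.E_eLb2 ⊆ N.M.Ents6 from (List.subset_append_of_subset_right _ (List.subset_append_left _ _))) h) ia37 <|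
  .cons ta41 (fun _ h => List.map_subset _ (show N.M.E_dQ64 ⊆ N.M.Ents6 from (List.subset_append_of_subset_right _ (List.subset_append_of_subset_right _ (List.subset_append_of_subset_right _ (List.subset_append_of_subset_right _ (List.subset_append_of_subset_right _ (List.subset_append_left _ _))))))) h) ia41 <|
  .cons ta42 (fun _ h => List.map_subset _ (show N.M.E_dD64 ⊆ N.M.Ents6 from (List.subset_append_of_subset_right _ (List.subset_append_of_subset_right _ (List.subset_append_of_subset_right _ (List.subset_append_left _ _))))) h) ia42 <|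
  .nil
theorem lev6 : N.Lev 6 (N.M.Ents6.map Prod.fst) ∧ N.LevI 6 I6 :=
  lev_of2 (gl := N.A.gl 6) (N.A.hl_old (by decide) (by decide)) lev5.2 ea6 xa6 ra6 (by decide +kernel)

noncomputable def el7 : List ℕ := lA3
theorem ea7 : Clf 7 el7 := aA3
noncomputable def xl7 : List ℕ := lF7
theorem xa7 : Cms 7 I6 xl7 := aF7
noncomputable def rl7 : List ℕ := [ca120.R, ca121.R, ca133.R, ca134.R, ca135.R, ca137.R, ca139.R, ca140.R, ca142.R, ca147.R, ca150.R, ca152.R,
 ca153.R]
theorem ra7 : Crs 7 I6 I7 (N.M.Ents7.map Prod.fst) rl7 :=
  .cons ta120 (fun _ h => List.map_subset _ (show N.M.E_eLc3 ⊆ N.M.Ents7 from (List.subset_append_of_subset_right _ (List.subset_append_left _ _))) h) ia120 <|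
  .cons ta121 (fun _ h => List.map_subset _ (show N.M.E_eLb5 ⊆ N.M.Ents7 from (List.subset_append_left _ _)) h) ia121 <|
  .cons ta133 (fun _ h => List.map_subset _ (show N.M.E_dJ2 ⊆ N.M.Ents7 from (List.subset_append_of_subset_right _ (List.subset_append_of_subset_right _ (List.subset_append_of_subset_right _ (List.subset_append_of_subset_right _ (List.subset_append_of_subset_right _ (List.subset_append_of_subset_right _ (List.subset_append_of_subset_right _ (List.subset_append_of_subset_right _ (List.subset_append_of_subset_right _ (List.subset_append_of_subset_right _ (List.subset_append_left _ _)))))))))))) h) ia133 <|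
  .cons ta134 (fun _ h => List.map_subset _ (show N.M.E_dM122 ⊆ N.M.Ents7 from (List.subset_append_of_subset_right _ (List.subset_append_of_subset_right _ (List.subset_append_of_subset_right _ (List.subset_append_of_subset_right _ (List.subset_append_of_subset_right _ (List.subset_append_of_subset_right _ (List.subset_append_of_subset_right _ (List.subset_append_of_subset_right _ (List.subset_append_of_subset_right _ (List.subset_append_of_subset_right _ (List.subset_append_of_subset_right _ (List.subset_append_left _ _))))))))))))) h) ia134 <|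
  .cons ta135 (fun _ h => List.map_subset _ (show N.M.E_dM22 ⊆ N.M.Ents7 from (List.subset_append_of_subset_right _ (List.subset_append_of_subset_right _ (List.subset_append_of_subset_right _ (List.subset_append_of_subset_right _ (List.subset_append_of_subset_right _ (List.subset_append_of_subset_right _ (List.subset_append_of_subset_right _ (List.subset_append_of_subset_right _ (List.subset_append_left _ _)))))))))) h) ia135 <|
  .cons ta137 (fun _ h => List.map_subset _ (show N.M.E_dA10 ⊆ N.M.Ents7 from (List.subset_append_of_subset_right _ (List.subset_append_of_subset_right _ (List.subset_append_of_subset_right _ (List.subset_append_of_subset_right _ (List.subset_append_of_subset_right _ (List.subset_append_of_subset_right _ (List.subset_append_of_subset_right _ (List.subset_append_left _ _))))))))) h) ia137 <|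
  .cons ta139 (fun _ h => List.map_subset _ (show N.M.E_eL342 ⊆ N.M.Ents7 from (List.subset_append_of_subset_right _ (List.subset_append_of_subset_right _ (List.subset_append_of_subset_right _ (List.subset_append_of_subset_right _ (List.subset_append_of_subset_right _ (List.subset_append_of_subset_right _ (List.subset_append_of_subset_right _ (List.subset_append_of_subset_right _ (List.subset_append_of_subset_right _ (List.subset_append_left _ _))))))))))) h) ia139 <|
  .cons ta140 (fun _ h => List.map_subset _ (show N.M.E_eLc9 ⊆ N.M.Ents7 from (List.subset_append_of_subset_right _ (List.subset_append_of_subset_right _ (List.subset_append_of_subset_right _ (List.subset_append_left _ _))))) h) ia140 <|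
  .cons ta142 (fun _ h => List.map_subset _ (show N.M.E_eLd5 ⊆ N.M.Ents7 from (List.subset_append_of_subset_right _ (List.subset_append_of_subset_right _ (List.subset_append_of_subset_right _ (List.subset_append_of_subset_right _ (List.subset_append_of_subset_right _ (List.subset_append_left _ _))))))) h) ia142 <|
  .cons ta147 (fun _ h => List.map_subset _ (show N.M.E_dW128 ⊆ N.M.Ents7 from (List.subset_append_of_subset_right _ (List.subset_append_of_subset_right _ (List.subset_append_of_subset_right _ (List.subset_append_of_subset_right _ (List.subset_append_of_subset_right _ (List.subset_append_of_subset_right _ (List.subset_append_of_subset_right _ (List.subset_append_of_subset_right _ (List.subset_append_of_subset_right _ (List.subset_append_of_subset_right _ (List.subset_append_of_subset_right _ (List.subset_append_of_subset_right _ (List.Subset.refl _)))))))))))))) h) ia147 <|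
  .cons ta150 (fun _ h => List.map_subset _ (show N.M.E_eLc4 ⊆ N.M.Ents7 from (List.subset_append_of_subset_right _ (List.subset_append_of_subset_right _ (List.subset_append_left _ _)))) h) ia150 <|
  .cons ta152 (fun _ h => List.map_subset _ (show N.M.E_dQ128 ⊆ N.M.Ents7 from (List.subset_append_of_subset_right _ (List.subset_append_of_subset_right _ (List.subset_append_of_subset_right _ (List.subset_append_of_subset_right _ (List.subset_append_of_subset_right _ (List.subset_append_of_subset_right _ (List.subset_append_left _ _)))))))) h) ia152 <|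
  .cons ta153 (fun _ h => List.map_subset _ (show N.M.E_dD128 ⊆ N.M.Ents7 from (List.subset_append_of_subset_right _ (List.subset_append_of_subset_right _ (List.subset_append_of_subset_right _ (List.subset_append_of_subset_right _ (List.subset_append_left _ _)))))) h) ia153 <|
  .nil
theorem lev7 : N.Lev 7 (N.M.Ents7.map Prod.fst) ∧ N.LevI 7 I7 :=
  lev_of2 (gl := N.A.gl 7) (N.A.hl_old (by decide) (by decide)) lev6.2 ea7 xa7 ra7 (by decide +kernel)

end Cfsg.Agent.FS.NB.D
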