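import Cfsg.Agent.FS.N.B.D.B0
import Cfsg.Agent.FS.N.B.D.B1
import Cfsg.Agent.FS.N.B.D.B2
import Cfsg.Agent.FS.N.B.D.B3
import Cfsg.Agent.FS.N.B.D.B4
import Cfsg.Agent.FS.N.B.D.F8
import Cfsg.Agent.FS.N.B.D.Hb0
import Cfsg.Agent.FS.N.B.D.Pb0
import Cfsg.Agent.FS.N.B.D.Pb1
import Cfsg.Agent.FS.N.B.D.Pb2
import Cfsg.Agent.FS.N.B.D.Lv7

set_option maxRecDepth 100000
set_option linter.all false
set_option Elab.async false

namespace Cfsg.Agent.FS.NB.D

noncomputable def el8 : List ℕ := lB0 ++ (lB1 ++ (lB2 ++ (lB3 ++ (lB4))))
theorem ea8 : Clf 8 el8 := .app aB0 (.app aB1 (.app aB2 (.app aB3 (aB4))))
noncomputable def xl8 : List ℕ := lPb0 ++ (lPb1 ++ (lPb2 ++ (lHb0 ++ (lF8))))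
theorem xa8 : Cms 8 I7 xl8 := .app aPb0 (.app aPb1 (.app aPb2 (.app aHb0.cms (aF8))))
noncomputable def rl8 : List ℕ := [cb183.R, cb221.R, cb222.R, cb226.R, cb390.R, cb428.R, cb429.R, cb430.R, cb464.R, cb471.R, cb488.R, cb489.R,
 cb490.R, cb491.R, cb493.R, cb511.R, cb519.R, cb529.R, cb530.R]
theorem ra8 : Crs 8 I7 I8 (N.M.Ents8.map Prod.fst) rl8 :=
  .cons tb183 (fun _ h => List.map_subset _ (show N.M.E_dS44 ⊆ N.M.Ents8 from (List.subset_append_of_subset_right _ (List.subset_append_of_subset_right _ (List.subset_append_of_subset_right _ (List.subset_append_of_subset_right _ (List.subset_append_of_subset_right _ (List.subset_append_of_subset_right _ (List.subset_append_of_subset_right _ (List.subset_append_of_subset_right _ (List.subset_append_of_subset_right _ (List.subset_append_of_subset_right _ (List.subset_append_of_subset_right _ (List.subset_append_of_subset_right _ (List.subset_append_of_subset_right _ (List.subset_append_of_subset_right _ (List.subset_append_of_subset_right _ (List.subset_append_of_subset_right _ (List.subset_append_of_subset_right _ (List.subset_append_of_subset_right _ (List.Subset.refl _)))))))))))))))))))) h) ib183 <|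
  .cons tb221 (fun _ h => List.map_subset _ (show N.M.E_eL451 ⊆ N.M.Ents8 from (List.subset_append_of_subset_right _ (List.subset_append_of_subset_right _ (List.subset_append_of_subset_right _ (List.subset_append_of_subset_right _ (List.subset_append_of_subset_right _ (List.subset_append_of_subset_right _ (List.subset_append_of_subset_right _ (List.subset_append_of_subset_right _ (List.subset_append_of_subset_right _ (List.subset_append_of_subset_right _ (List.subset_append_of_subset_right _ (List.subset_append_of_subset_right _ (List.subset_append_of_subset_right _ (List.subset_append_of_subset_right _ (List.subset_append_of_subset_right _ (List.subset_append_left _ _))))))))))))))))) h) ib221 <|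
  .cons tb222 (fun _ h => List.map_subset _ (show N.M.E_dM222 ⊆ N.M.Ents8 from (List.subset_append_of_subset_right _ (List.subset_append_of_subset_right _ (List.subset_append_of_subset_right _ (List.subset_append_of_subset_right _ (List.subset_append_of_subset_right _ (List.subset_append_of_subset_right _ (List.subset_append_of_subset_right _ (List.subset_append_of_subset_right _ (List.subset_append_of_subset_right _ (List.subset_append_of_subset_right _ (List.subset_append_of_subset_right _ (List.subset_append_of_subset_right _ (List.subset_append_of_subset_right _ (List.subset_append_of_subset_right _ (List.subset_append_of_subset_right _ (List.subset_append_of_subset_right _ (List.subset_append_left _ _)))))))))))))))))) h) ib222 <|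
  .cons tb226 (fun _ h => List.map_subset _ (show N.M.E_dS10 ⊆ N.M.Ents8 from (List.subset_append_of_subset_right _ (List.subset_append_of_subset_right _ (List.subset_append_of_subset_right _ (List.subset_append_of_subset_right _ (List.subset_append_of_subset_right _ (List.subset_append_of_subset_right _ (List.subset_append_of_subset_right _ (List.subset_append_of_subset_right _ (List.subset_append_of_subset_right _ (List.subset_append_of_subset_right _ (List.subset_append_of_subset_right _ (List.subset_append_of_subset_right _ (List.subset_append_of_subset_right _ (List.subset_append_left _ _))))))))))))))) h) ib226 <|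
  .cons tb390 (fun _ h => List.map_subset _ (show N.M.E_eWb2 ⊆ N.M.Ents8 from (List.subset_append_of_subset_right _ (List.subset_append_of_subset_right _ (List.subset_append_of_subset_right _ (List.subset_append_of_subset_right _ (List.subset_append_of_subset_right _ (List.subset_append_of_subset_right _ (List.subset_append_of_subset_right _ (List.subset_append_of_subset_right _ (List.subset_append_of_subset_right _ (List.subset_append_of_subset_right _ (List.subset_append_of_subset_right _ (List.subset_append_left _ _))))))))))))) h) ib390 <|
  .cons tb428 (fun _ h => List.map_subset _ (show N.M.E_eLc1 ⊆ N.M.Ents8 from (List.subset_append_left _ _)) h) ib428 <|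
  .cons tb429 (fun _ h => List.map_subset _ (show N.M.E_eLd3 ⊆ N.M.Ents8 from (List.subset_append_of_subset_right _ (List.subset_append_of_subset_right _ (List.subset_append_of_subset_right _ (List.subset_append_left _ _))))) h) ib429 <|
  .cons tb430 (fun _ h => List.map_subset _ (show N.M.E_eLc8 ⊆ N.M.Ents8 from (List.subset_append_of_subset_right _ (List.subset_append_of_subset_right _ (List.subset_append_left _ _)))) h) ib430 <|
  .cons tb464 (fun _ h => List.map_subset _ (show N.M.E_dG27 ⊆ N.M.Ents8 from (List.subset_append_of_subset_right _ (List.subset_append_of_subset_right _ (List.subset_append_of_subset_right _ (List.subset_append_of_subset_right _ (List.subset_append_of_subset_right _ (List.subset_append_of_subset_right _ (List.subset_append_of_subset_right _ (List.subset_append_of_subset_right _ (List.subset_append_of_subset_right _ (List.subset_append_left _ _))))))))))) h) ib464 <|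
  .cons tb471 (fun _ h => List.map_subset _ (show N.M.E_eWb1 ⊆ N.M.Ents8 from (List.subset_append_of_subset_right _ (List.subset_append_of_subset_right _ (List.subset_append_of_subset_right _ (List.subset_append_of_subset_right _ (List.subset_append_of_subset_right _ (List.subset_append_of_subset_right _ (List.subset_append_of_subset_right _ (List.subset_append_of_subset_right _ (List.subset_append_of_subset_right _ (List.subset_append_of_subset_right _ (List.subset_append_left _ _)))))))))))) h) ib471 <|
  .cons tb488 (fun _ h => List.map_subset _ (show N.M.E_dLy ⊆ N.M.Ents8 from (List.subset_append_of_subset_right _ (List.subset_append_of_subset_right _ (List.subset_append_of_subset_right _ (List.subset_append_of_subset_right _ (List.subset_append_of_subset_right _ (List.subset_append_of_subset_right _ (List.subset_append_of_subset_right _ (List.subset_append_of_subset_right _ (List.subset_append_of_subset_right _ (List.subset_append_of_subset_right _ (List.subset_append_of_subset_right _ (List.subset_append_of_subset_right _ (List.subset_append_of_subset_right _ (List.subset_append_of_subset_right _ (List.subset_append_of_subset_right _ (List.subset_append_of_subset_right _ (List.subset_append_of_subset_right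 _ (List.subset_append_left _ _))))))))))))))))))) h) ib488 <|
  .cons tb489 (fun _ h => List.map_subset _ (show N.M.E_eL430 ⊆ N.M.Ents8 from (List.subset_append_of_subset_right _ (List.subset_append_of_subset_right _ (List.subset_append_of_subset_right _ (List.subset_append_of_subset_right _ (List.subset_append_of_subset_right _ (List.subset_append_of_subset_right _ (List.subset_append_of_subset_right _ (List.subset_append_of_subset_right _ (List.subset_append_of_subset_right _ (List.subset_append_of_subset_right _ (List.subset_append_of_subset_right _ (List.subset_append_of_subset_right _ (List.subset_append_left _ _)))))))))))))) h) ib489 <|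
  .cons tb490 (fun _ h => List.map_subset _ (show N.M.E_dS47 ⊆ N.M.Ents8 from (List.subset_append_of_subset_right _ (List.subset_append_of_subset_right _ (List.subset_append_of_subset_right _ (List.subset_append_of_subset_right _ (List.subset_append_of_subset_right _ (List.subset_append_of_subset_right _ (List.subset_append_of_subset_right _ (List.subset_append_of_subset_right _ (List.subset_append_of_subset_right _ (List.subset_append_of_subset_right _ (List.subset_append_of_subset_right _ (List.subset_append_of_subset_right _ (List.subset_append_of_subset_right _ (List.subset_append_of_subset_right _ (List.subset_append_left _ _)))))))))))))))) h) ib490 <|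
  .cons tb491 (fun _ h => List.map_subset _ (show N.M.E_eLd8 ⊆ N.M.Ents8 from (List.subset_append_of_subset_right _ (List.subset_append_of_subset_right _ (List.subset_append_of_subset_right _ (List.subset_append_of_subset_right _ (List.subset_append_of_subset_right _ (List.subset_append_left _ _))))))) h) ib491 <|
  .cons tb493 (fun _ h => List.map_subset _ (show N.M.E_eLe3 ⊆ N.M.Ents8 from (List.subset_append_of_subset_right _ (List.subset_append_of_subset_right _ (List.subset_append_of_subset_right _ (List.subset_append_of_subset_right _ (List.subset_append_of_subset_right _ (List.subset_append_of_subset_right _ (List.subset_append_of_subset_right _ (List.subset_append_left _ _))))))))) h) ib493 <|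
  .cons tb511 (fun _ h => List.map_subset _ (show N.M.E_eLc2 ⊆ N.M.Ents8 from (List.subset_append_of_subset_right _ (List.subset_append_left _ _))) h) ib511 <|
  .cons tb519 (fun _ h => List.map_subset _ (show N.M.E_eLd4 ⊆ N.M.Ents8 from (List.subset_append_of_subset_right _ (List.subset_append_of_subset_right _ (List.subset_append_of_subset_right _ (List.subset_append_of_subset_right _ (List.subset_append_left _ _)))))) h) ib519 <|
  .cons tb529 (fun _ h => List.map_subset _ (show N.M.E_dQ256 ⊆ N.M.Ents8 from (List.subset_append_of_subset_right _ (List.subset_append_of_subset_right _ (List.subset_append_of_subset_right _ (List.subset_append_of_subset_right _ (List.subset_append_of_subset_right _ (List.subset_append_of_subset_right _ (List.subset_append_of_subset_right _ (List.subset_append_of_subset_right _ (List.subset_append_left _ _)))))))))) h) ib529 <|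
  .cons tb530 (fun _ h => List.map_subset _ (show N.M.E_dD256 ⊆ N.M.Ents8 from (List.subset_append_of_subset_right _ (List.subset_append_of_subset_right _ (List.subset_append_of_subset_right _ (List.subset_append_of_subset_right _ (List.subset_append_of_subset_right _ (List.subset_append_of_subset_right _ (List.subset_append_left _ _)))))))) h) ib530 <|
  .nil
theorem lev8 : N.Lev 8 (N.M.Ents8.map Prod.fst) ∧ N.LevI 8 I8 :=
  lev_of2 (gl := N.A.gl 8) (N.A.hl_old (by decide) (by decide)) lev7.2 ea8 xa8 ra8 (by decide +kernel)

end Cfsg.Agent.FS.NB.D
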