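import Cfsg.Agent.FS.N.B.D.Pd1
import Cfsg.Agent.FS.N.B.D.Pd2
import Cfsg.Agent.FS.N.B.D.Pd3
import Cfsg.Agent.FS.N.B.D.Pd4
import Cfsg.Agent.FS.N.B.D.Pd5
import Cfsg.Agent.FS.N.B.D.Pd6
import Cfsg.Agent.FS.N.B.D.Pd7
import Cfsg.Agent.FS.N.B.D.Pd8
import Cfsg.Agent.FS.N.B.D.Pd9
import Cfsg.Agent.FS.N.B.D.Pd10
import Cfsg.Agent.FS.N.B.D.Pd11
import Cfsg.Agent.FS.N.B.D.Pd12
import Cfsg.Agent.FS.N.B.D.Pd13
import Cfsg.Agent.FS.N.B.D.Pd14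
import Cfsg.Agent.FS.N.B.D.Pd15
import Cfsg.Agent.FS.N.B.D.Pd16
import Cfsg.Agent.FS.N.B.D.Pd17
import Cfsg.Agent.FS.N.B.D.Pd18
import Cfsg.Agent.FS.N.B.D.Pd19
import Cfsg.Agent.FS.N.B.D.Pd20
import Cfsg.Agent.FS.N.B.D.Pd21
import Cfsg.Agent.FS.N.B.D.Pd22
import Cfsg.Agent.FS.N.B.D.Pd23
import Cfsg.Agent.FS.N.B.D.Pd24
import Cfsg.Agent.FS.N.B.D.Pd25

set_option maxRecDepth 100000
set_option linter.all false
set_option Elab.async false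

namespace Cfsg.Agent.FS.NB.D

theorem sc10_0 : cc10.NCs uc10_1 :=
  Gh.stepC bc10 Gh.nil (.cons (.nil) qc10_0_1 <| .cons (.nil) qc10_0_0 <| .nil) oc10_0
theorem sc10_1 : cc10.NCs uc10_2 :=
  Gh.stepC bc10 sc10_0 (.cons (.cons (.cons (.nil) qc10_1_1 <| .nil) qc10_1_3 <| .cons (.nil) qc10_1_2 <| .nil) qc10_1_4 <| .cons (.nil) qc10_1_0 <| .nil) oc10_1
theorem sc10_2 : cc10.NCs uc10_3 :=
  Gh.stepC bc10 sc10_1 (.cons (.cons (.cons (.cons (.nil) qc10_2_8 <| .cons (.nil) qc10_2_9 <| .cons (.nil) qc10_2_10 <| .nil) qc10_2_11 <| .cons (.cons (.nil) qc10_2_4 <| .cons (.nil) qc10_2_5 <| .nil) qc10_2_12 <| .cons (.nil) qc10_2_6 <| .cons (.nil) qc10_2_7 <| .nil) qc10_2_22 <| .cons (.cons (.nil) qc10_2_17 <| .cons (.nil) qc10_2_18 <| .cons (.nil) qc10_2_19 <| .nil) qc10_2_20 <| .cons (.cons (.nil) qc10_2_13 <| .cons (.nil) qc10_2_14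 <| .nil) qc10_2_21 <| .cons (.nil) qc10_2_15 <| .cons (.nil) qc10_2_16 <| .nil) qc10_2_23 <| .cons (.nil) qc10_2_2 <| .cons (.nil) qc10_2_3 <| .cons (.nil) qc10_2_0 <| .cons (.nil) qc10_2_1 <| .nil) oc10_2
theorem sc10_3 : cc10.NCs uc10_4 :=
  Gh.stepC bc10 sc10_2 (.cons (.cons (.cons (.nil) qc10_3_17 <| .cons (.nil) qc10_3_18 <| .nil) qc10_3_21 <| .cons (.nil) qc10_3_19 <| .cons (.nil) qc10_3_20 <| .nil) qc10_3_22 <| .cons (.nil) qc10_3_16 <| .cons (.cons (.nil) qc10_3_0 <| .cons (.nil) qc10_3_1 <| .cons (.nil) qc10_3_2 <| .nil) qc10_3_12 <| .cons (.cons (.nil) qc10_3_3 <| .cons (.nil) qc10_3_4 <| .cons (.nil) qc10_3_5 <| .nil) qc10_3_13 <| .cons (.cons (.nil) qc10_3_6 <| .cons (.nil) qc10_3_7 <| .cons (.nil) qc10_3_8 <| .nil) qc10_3_14 <| .cons (.cons (.nil) qc10_3_9 <| .cons (.nil) qc10_3_10 <| .cons (.nil) qc10_3_11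 <| .nil) qc10_3_15 <| .nil) oc10_3
theorem tc10 : ClF 9 cc10.R true [] := Gh.cl0 bc10 sc10_3 (by decide +kernel)
theorem kc10 : Cm 9 cc10.R I8 [] := .of_p tc10 (Gh.clN mc10)

noncomputable def lPd26 : List ℕ := [cc10.R]
theorem aPd26 : Cms 9 I8 lPd26 := .cons kc10 .nil

end Cfsg.Agent.FS.NB.D
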