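import Cfsg.Agent.FS.N.B.D.C0
import Cfsg.Agent.FS.N.B.D.C1
import Cfsg.Agent.FS.N.B.D.C10
import Cfsg.Agent.FS.N.B.D.C11
import Cfsg.Agent.FS.N.B.D.C12
import Cfsg.Agent.FS.N.B.D.C13
import Cfsg.Agent.FS.N.B.D.C14
import Cfsg.Agent.FS.N.B.D.C15
import Cfsg.Agent.FS.N.B.D.C16
import Cfsg.Agent.FS.N.B.D.C17
import Cfsg.Agent.FS.N.B.D.C18
import Cfsg.Agent.FS.N.B.D.C19
import Cfsg.Agent.FS.N.B.D.C2
import Cfsg.Agent.FS.N.B.D.C20
import Cfsg.Agent.FS.N.B.D.C21
import Cfsg.Agent.FS.N.B.D.C22
import Cfsg.Agent.FS.N.B.D.C23
import Cfsg.Agent.FS.N.B.D.C24
import Cfsg.Agent.FS.N.B.D.C25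
import Cfsg.Agent.FS.N.B.D.C26
import Cfsg.Agent.FS.N.B.D.C27
import Cfsg.Agent.FS.N.B.D.C28
import Cfsg.Agent.FS.N.B.D.C29
import Cfsg.Agent.FS.N.B.D.C3
import Cfsg.Agent.FS.N.B.D.C30
import Cfsg.Agent.FS.N.B.D.C31
import Cfsg.Agent.FS.N.B.D.C32
import Cfsg.Agent.FS.N.B.D.C33
import Cfsg.Agent.FS.N.B.D.C34
import Cfsg.Agent.FS.N.B.D.C35
import Cfsg.Agent.FS.N.B.D.C36
import Cfsg.Agent.FS.N.B.D.C37
import Cfsg.Agent.FS.N.B.D.C38
import Cfsg.Agent.FS.N.B.D.C39
import Cfsg.Agent.FS.N.B.D.C4
import Cfsg.Agent.FS.N.B.D.C40
import Cfsg.Agent.FS.N.B.D.C41
import Cfsg.Agent.FS.N.B.D.C42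
import Cfsg.Agent.FS.N.B.D.C43
import Cfsg.Agent.FS.N.B.D.C44
import Cfsg.Agent.FS.N.B.D.C45
import Cfsg.Agent.FS.N.B.D.C46
import Cfsg.Agent.FS.N.B.D.C47
import Cfsg.Agent.FS.N.B.D.C5
import Cfsg.Agent.FS.N.B.D.C6
import Cfsg.Agent.FS.N.B.D.C7
import Cfsg.Agent.FS.N.B.D.C8
import Cfsg.Agent.FS.N.B.D.C9
import Cfsg.Agent.FS.N.B.D.F9
import Cfsg.Agent.FS.N.B.D.Fd
import Cfsg.Agent.FS.N.B.D.Fe
import Cfsg.Agent.FS.N.B.D.Hc1
import Cfsg.Agent.FS.N.B.D.Hc2
import Cfsg.Agent.FS.N.B.D.Hc3
import Cfsg.Agent.FS.N.B.D.Hc4
import Cfsg.Agent.FS.N.B.D.Hc5
import Cfsg.Agent.FS.N.B.D.Pc0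
import Cfsg.Agent.FS.N.B.D.Pc1
import Cfsg.Agent.FS.N.B.D.Pc2
import Cfsg.Agent.FS.N.B.D.Pc3
import Cfsg.Agent.FS.N.B.D.Pd26
import Cfsg.Agent.FS.N.B.D.Lv8
import Cfsg.Agent.FS.N.G.S9

set_option maxRecDepth 100000
set_option linter.all false
set_option Elab.async false

namespace Cfsg.Agent.FS.NB.D

noncomputable def el9 : List ℕ := lC0 ++ (lC1 ++ (lC2 ++ (lC3 ++ (lC4 ++ (lC5 ++ (lC6 ++ (lC7 ++ (lC8 ++ (lC9 ++ (lC10 ++ (lC11 ++ (lC12 ++ (lC13 ++ (lC14 ++ (lC15 ++ (lC16 ++ (lC17 ++ (lC18 ++ (lC19 ++ (lC20 ++ (lC21 ++ (lC22 ++ (lC23 ++ (lC24 ++ (lC25 ++ (lC26 ++ (lC27 ++ (lC28 ++ (lC29 ++ (lC30 ++ (lC31 ++ (lC32 ++ (lC33 ++ (lC34 ++ (lC35 ++ (lC36 ++ (lC37 ++ (lC38 ++ (lC39 ++ (lC40 ++ (lC41 ++ (lC42 ++ (lC43 ++ (lC44 ++ (lC45 ++ (lC46 ++ (lC47)))))))))))))))))))))))))))))))))))))))))))))))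
theorem ea9 : Clf 9 el9 := .app aC0 (.app aC1 (.app aC2 (.app aC3 (.app aC4 (.app aC5 (.app aC6 (.app aC7 (.app aC8 (.app aC9 (.app aC10 (.app aC11 (.app aC12 (.app aC13 (.app aC14 (.app aC15 (.app aC16 (.app aC17 (.app aC18 (.app aC19 (.app aC20 (.app aC21 (.app aC22 (.app aC23 (.app aC24 (.app aC25 (.app aC26 (.app aC27 (.app aC28 (.app aC29 (.app aC30 (.app aC31 (.app aC32 (.app aC33 (.app aC34 (.app aC35 (.app aC36 (.app aC37 (.app aC38 (.app aC39 (.app aC40 (.app aC41 (.app aC42 (.app aC43 (.app aC44 (.app aC45 (.app aC46 (aC47)))))))))))))))))))))))))))))))))))))))))))))))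
noncomputable def xl9 : List ℕ := lPc0 ++ (lPc1 ++ (lPc2 ++ (lPc3 ++ (lHc1 ++ (lHc2 ++ (lHc3 ++ (lHc4 ++ (lHc5 ++ (lF9 ++ (lPd26))))))))))
theorem xa9 : Cms 9 I8 xl9 := .app aPc0 (.app aPc1 (.app aPc2 (.app aPc3 (.app aHc1.cms (.app aHc2.cms (.app aHc3.cms (.app aHc4.cms (.app aHc5.cms (.app aF9 (aPd26))))))))))
noncomputable def rl9 : List ℕ := [cc262.R, cc265.R, cc1674.R, cc1998.R, cc2029.R, cc2034.R, cc2911.R, cc3219.R, cc3222.R, cc3223.R, cc3224.R, cc3239.R,
 cc3256.R, cc3326.R, cc3367.R, cc3371.R, cc3374.R, cc3376.R, cc3456.R, cc3462.R, cc3483.R, cc3491.R, cc3492.R, cc3358.R,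
 cx0.R, cx1.R]
theorem ra9 : Crs 9 I8 I9 (N.M.Ents9.map Prod.fst) rl9 :=
  .cons tc262 (fun _ h => List.map_subset _ (show N.M.E_eL454 ⊆ N.M.Ents9 from (List.subset_append_of_subset_right _ (List.subset_append_of_subset_right _ (List.subset_append_of_subset_right _ (List.subset_append_of_subset_right _ (List.subset_append_of_subset_right _ (List.subset_append_of_subset_right _ (List.subset_append_of_subset_right _ (List.subset_append_of_subset_right _ (List.subset_append_of_subset_right _ (List.subset_append_of_subset_right _ (List.subset_append_of_subset_right _ (List.subset_append_of_subset_right _ (List.subset_append_of_subset_right _ (List.subset_append_of_subset_right _ (List.subset_append_left _ _)))))))))))))))) h) ic262 <|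
  .cons tc265 (fun _ h => List.map_subset _ (show N.M.E_dS63 ⊆ N.M.Ents9 from (List.subset_append_of_subset_right _ (List.subset_append_of_subset_right _ (List.subset_append_of_subset_right _ (List.subset_append_of_subset_right _ (List.subset_append_of_subset_right _ (List.subset_append_of_subset_right _ (List.subset_append_of_subset_right _ (List.subset_append_of_subset_right _ (List.subset_append_of_subset_right _ (List.subset_append_of_subset_right _ (List.subset_append_of_subset_right _ (List.subset_append_of_subset_right _ (List.subset_append_of_subset_right _ (List.subset_append_of_subset_right _ (List.subset_append_of_subset_right _ (List.subset_append_of_subset_right _ (List.subset_append_of_subset_right _ (List.subset_append_of_subset_right _ (List.subset_append_of_subset_right _ (List.subset_append_of_subset_right _ (List.subset_append_of_subset_right _ (List.subset_append_of_subset_right _ (List.subset_append_left _ _)))))))))))))))))))))))) h) ic265 <|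
  .cons tc1674 (fun _ h => List.map_subset _ (show N.M.E_d9 ⊆ N.M.Ents9 from (List.subset_append_of_subset_right _ (List.subset_append_of_subset_right _ (List.subset_append_of_subset_right _ (List.subset_append_of_subset_right _ (List.subset_append_of_subset_right _ (List.subset_append_of_subset_right _ (List.subset_append_of_subset_right _ (List.subset_append_of_subset_right _ (List.subset_append_of_subset_right _ (List.subset_append_of_subset_right _ (List.subset_append_of_subset_right _ (List.subset_append_of_subset_right _ (List.subset_append_of_subset_right _ (List.subset_append_of_subset_right _ (List.subset_append_of_subset_right _ (List.subset_append_of_subset_right _ (List.subset_append_of_subset_right _ (List.subset_append_of_subset_right _ (List.subset_append_of_subset_right _ (List.subset_append_of_subset_right _ (List.subset_append_of_subset_right _ (List.subset_append_of_subset_right _ (List.subset_append_of_subset_right _ (List.subset_append_of_subset_right _ (List.subset_append_of_subset_right _ (List.Subset.refl _))))))))))))))))))))))))))) h) ic1674 <|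
  .cons tc1998 (fun _ h => List.map_subset _ (show N.M.E_eWb3 ⊆ N.M.Ents9 from (List.subset_append_of_subset_right _ (List.subset_append_of_subset_right _ (List.subset_append_of_subset_right _ (List.subset_append_of_subset_right _ (List.subset_append_of_subset_right _ (List.subset_append_of_subset_right _ (List.subset_append_of_subset_right _ (List.subset_append_of_subset_right _ (List.subset_append_of_subset_right _ (List.subset_append_of_subset_right _ (List.subset_append_left _ _)))))))))))) h) ic1998 <|
  .cons tc2029 (fun _ h => List.map_subset _ (show N.M.E_eL433 ⊆ N.M.Ents9 from (List.subset_append_of_subset_right _ (List.subset_append_of_subset_right _ (List.subset_append_of_subset_right _ (List.subset_append_of_subset_right _ (List.subset_append_of_subset_right _ (List.subset_append_of_subset_right _ (List.subset_append_of_subset_right _ (List.subset_append_of_subset_right _ (List.subset_append_of_subset_right _ (List.subset_append_of_subset_right _ (List.subset_append_of_subset_right _ (List.subset_append_of_subset_right _ (List.subset_append_left _ _)))))))))))))) h) ic2029 <|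
  .cons tc2034 (fun _ h => List.map_subset _ (show N.M.E_eL455 ⊆ N.M.Ents9 from (List.subset_append_of_subset_right _ (List.subset_append_of_subset_right _ (List.subset_append_of_subset_right _ (List.subset_append_of_subset_right _ (List.subset_append_of_subset_right _ (List.subset_append_of_subset_right _ (List.subset_append_of_subset_right _ (List.subset_append_of_subset_right _ (List.subset_append_of_subset_right _ (List.subset_append_of_subset_right _ (List.subset_append_of_subset_right _ (List.subset_append_of_subset_right _ (List.subset_append_of_subset_right _ (List.subset_append_of_subset_right _ (List.subset_append_of_subset_right _ (List.subset_append_left _ _))))))))))))))))) h) ic2034 <|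
  .cons tc2911 (fun _ h => List.map_subset _ (show N.M.E_eL450 ⊆ N.M.Ents9 from (List.subset_append_of_subset_right _ (List.subset_append_of_subset_right _ (List.subset_append_of_subset_right _ (List.subset_append_of_subset_right _ (List.subset_append_of_subset_right _ (List.subset_append_of_subset_right _ (List.subset_append_of_subset_right _ (List.subset_append_of_subset_right _ (List.subset_append_of_subset_right _ (List.subset_append_of_subset_right _ (List.subset_append_of_subset_right _ (List.subset_append_of_subset_right _ (List.subset_append_of_subset_right _ (List.subset_append_left _ _))))))))))))))) h) ic2911 <|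
  .cons tc3219 (fun _ h => List.map_subset _ (show N.M.E_eLd1 ⊆ N.M.Ents9 from (List.subset_append_of_subset_right _ (List.subset_append_left _ _))) h) ic3219 <|
  .cons tc3222 (fun _ h => List.map_subset _ (show N.M.E_eLc7 ⊆ N.M.Ents9 from (List.subset_append_left _ _)) h) ic3222 <|
  .cons tc3223 (fun _ h => List.map_subset _ (show N.M.E_eLe1 ⊆ N.M.Ents9 from (List.subset_append_of_subset_right _ (List.subset_append_of_subset_right _ (List.subset_append_of_subset_right _ (List.subset_append_of_subset_right _ (List.subset_append_left _ _)))))) h) ic3223 <|
  .cons tc3224 (fun _ h => List.map_subset _ (show N.M.E_eLd7 ⊆ N.M.Ents9 from (List.subset_append_of_subset_right _ (List.subset_append_of_subset_right _ (List.subset_append_of_subset_right _ (List.subset_append_left _ _))))) h) ic3224 <|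
  .cons tc3239 (fun _ h => List.map_subset _ (show N.M.E_dHS ⊆ N.M.Ents9 from (List.subset_append_of_subset_right _ (List.subset_append_of_subset_right _ (List.subset_append_of_subset_right _ (List.subset_append_of_subset_right _ (List.subset_append_of_subset_right _ (List.subset_append_of_subset_right _ (List.subset_append_of_subset_right _ (List.subset_append_of_subset_right _ (List.subset_append_of_subset_right _ (List.subset_append_of_subset_right _ (List.subset_append_of_subset_right _ (List.subset_append_of_subset_right _ (List.subset_append_of_subset_right _ (List.subset_append_of_subset_right _ (List.subset_append_of_subset_right _ (List.subset_append_of_subset_right _ (List.subset_append_of_subset_right _ (List.subset_append_of_subset_right _ (List.subset_append_of_subset_right _ (List.subset_append_of_subset_right _ (List.subset_append_left _ _)))))))))))))))))))))) h) ic3239 <|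
  .cons tc3256 (fun _ h => List.map_subset _ (show N.M.E_eS440 ⊆ N.M.Ents9 from (List.subset_append_of_subset_right _ (List.subset_append_of_subset_right _ (List.subset_append_of_subset_right _ (List.subset_append_of_subset_right _ (List.subset_append_of_subset_right _ (List.subset_append_of_subset_right _ (List.subset_append_of_subset_right _ (List.subset_append_of_subset_right _ (List.subset_append_of_subset_right _ (List.subset_append_of_subset_right _ (List.subset_append_of_subset_right _ (List.subset_append_of_subset_right _ (List.subset_append_of_subset_right _ (List.subset_append_of_subset_right _ (List.subset_append_of_subset_right _ (List.subset_append_of_subset_right _ (List.subset_append_of_subset_right _ (List.subset_append_of_subset_right _ (List.subset_append_left _ _)))))))))))))))))))) h) ic3256 <|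
  .cons tc3326 (fun _ h => List.map_subset _ (show N.M.E_dON ⊆ N.M.Ents9 from (List.subset_append_of_subset_right _ (List.subset_append_of_subset_right _ (List.subset_append_of_subset_right _ (List.subset_append_of_subset_right _ (List.subset_append_of_subset_right _ (List.subset_append_of_subset_right _ (List.subset_append_of_subset_right _ (List.subset_append_of_subset_right _ (List.subset_append_of_subset_right _ (List.subset_append_of_subset_right _ (List.subset_append_of_subset_right _ (List.subset_append_of_subset_right _ (List.subset_append_of_subset_right _ (List.subset_append_of_subset_right _ (List.subset_append_of_subset_right _ (List.subset_append_of_subset_right _ (List.subset_append_of_subset_right _ (List.subset_append_of_subset_right _ (List.subset_append_of_subset_right _ (List.subset_append_left _ _))))))))))))))))))))) h) ic3326 <|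
  .cons tc3367 (fun _ h => List.map_subset _ (show N.M.E_dL53 ⊆ N.M.Ents9 from (List.subset_append_of_subset_right _ (List.subset_append_of_subset_right _ (List.subset_append_of_subset_right _ (List.subset_append_of_subset_right _ (List.subset_append_of_subset_right _ (List.subset_append_of_subset_right _ (List.subset_append_of_subset_right _ (List.subset_append_of_subset_right _ (List.subset_append_of_subset_right _ (List.subset_append_of_subset_right _ (List.subset_append_of_subset_right _ (List.subset_append_of_subset_right _ (List.subset_append_of_subset_right _ (List.subset_append_of_subset_right _ (List.subset_append_of_subset_right _ (List.subset_append_of_subset_right _ (List.subset_append_of_subset_right _ (List.subset_append_of_subset_right _ (List.subset_append_of_subset_right _ (List.subset_append_of_subset_right _ (List.subset_append_of_subset_right _ (List.subset_append_left _ _))))))))))))))))))))))) h) ic3367 <|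
  .cons tc3371 (fun _ h => List.map_subset _ (show N.M.E_eS492 ⊆ N.M.Ents9 from (List.subset_append_of_subset_right _ (List.subset_append_of_subset_right _ (List.subset_append_of_subset_right _ (List.subset_append_of_subset_right _ (List.subset_append_of_subset_right _ (List.subset_append_of_subset_right _ (List.subset_append_of_subset_right _ (List.subset_append_of_subset_right _ (List.subset_append_of_subset_right _ (List.subset_append_of_subset_right _ (List.subset_append_of_subset_right _ (List.subset_append_of_subset_right _ (List.subset_append_of_subset_right _ (List.subset_append_of_subset_right _ (List.subset_append_of_subset_right _ (List.subset_append_of_subset_right _ (List.subset_append_of_subset_right _ (List.subset_append_left _ _))))))))))))))))))) h) ic3371 <|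
  .cons tc3374 (fun _ h => List.map_subset _ (show N.M.E_eLf1 ⊆ N.M.Ents9 from (List.subset_append_of_subset_right _ (List.subset_append_of_subset_right _ (List.subset_append_of_subset_right _ (List.subset_append_of_subset_right _ (List.subset_append_of_subset_right _ (List.subset_append_of_subset_right _ (List.subset_append_of_subset_right _ (List.subset_append_of_subset_right _ (List.subset_append_left _ _)))))))))) h) ic3374 <|
  .cons tc3376 (fun _ h => List.map_subset _ (show N.M.E_eLe5 ⊆ N.M.Ents9 from (List.subset_append_of_subset_right _ (List.subset_append_of_subset_right _ (List.subset_append_of_subset_right _ (List.subset_append_of_subset_right _ (List.subset_append_of_subset_right _ (List.subset_append_of_subset_right _ (List.subset_append_left _ _)))))))) h) ic3376 <|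
  .cons tc3456 (fun _ h => List.map_subset _ (show N.M.E_eWc0 ⊆ N.M.Ents9 from (List.subset_append_of_subset_right _ (List.subset_append_of_subset_right _ (List.subset_append_of_subset_right _ (List.subset_append_of_subset_right _ (List.subset_append_of_subset_right _ (List.subset_append_of_subset_right _ (List.subset_append_of_subset_right _ (List.subset_append_of_subset_right _ (List.subset_append_of_subset_right _ (List.subset_append_of_subset_right _ (List.subset_append_of_subset_right _ (List.subset_append_left _ _))))))))))))) h) ic3456 <|
  .cons tc3462 (fun _ h => List.map_subset _ (show N.M.E_eLd2 ⊆ N.M.Ents9 from (List.subset_append_of_subset_right _ (List.subset_append_of_subset_right _ (List.subset_append_left _ _)))) h) ic3462 <|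
  .cons tc3483 (fun _ h => List.map_subset _ (show N.M.E_eLe2 ⊆ N.M.Ents9 from (List.subset_append_of_subset_right _ (List.subset_append_of_subset_right _ (List.subset_append_of_subset_right _ (List.subset_append_of_subset_right _ (List.subset_append_of_subset_right _ (List.subset_append_left _ _))))))) h) ic3483 <|
  .cons tc3491 (fun _ h => List.map_subset _ (show N.M.E_eLf0 ⊆ N.M.Ents9 from (List.subset_append_of_subset_right _ (List.subset_append_of_subset_right _ (List.subset_append_of_subset_right _ (List.subset_append_of_subset_right _ (List.subset_append_of_subset_right _ (List.subset_append_of_subset_right _ (List.subset_append_of_subset_right _ (List.subset_append_left _ _))))))))) h) ic3491 <|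
  .cons tc3492 (fun _ h => List.map_subset _ (show N.M.E_eLf2 ⊆ N.M.Ents9 from (List.subset_append_of_subset_right _ (List.subset_append_of_subset_right _ (List.subset_append_of_subset_right _ (List.subset_append_of_subset_right _ (List.subset_append_of_subset_right _ (List.subset_append_of_subset_right _ (List.subset_append_of_subset_right _ (List.subset_append_of_subset_right _ (List.subset_append_of_subset_right _ (List.subset_append_left _ _))))))))))) h) ic3492 <|
  .cons tc3358 (fun _ h => List.map_subset _ (show N.M.E_dL47 ⊆ N.M.Ents9 from (List.subset_append_of_subset_right _ (List.subset_append_of_subset_right _ (List.subset_append_of_subset_right _ (List.subset_append_of_subset_right _ (List.subset_append_of_subset_right _ (List.subset_append_of_subset_right _ (List.subset_append_of_subset_right _ (List.subset_append_of_subset_right _ (List.subset_append_of_subset_right _ (List.subset_append_of_subset_right _ (List.subset_append_of_subset_right _ (List.subset_append_of_subset_right _ (List.subset_append_of_subset_right _ (List.subset_append_of_subset_right _ (List.subset_append_of_subset_right _ (List.subset_append_of_subset_right _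 (List.subset_append_left _ _)))))))))))))))))) h) ic3358 <|
  .cons tx0 (fun _ h => List.map_subset _ (show N.M.E_dW3 ⊆ N.M.Ents9 from (List.subset_append_of_subset_right _ (List.subset_append_of_subset_right _ (List.subset_append_of_subset_right _ (List.subset_append_of_subset_right _ (List.subset_append_of_subset_right _ (List.subset_append_of_subset_right _ (List.subset_append_of_subset_right _ (List.subset_append_of_subset_right _ (List.subset_append_of_subset_right _ (List.subset_append_of_subset_right _ (List.subset_append_of_subset_right _ (List.subset_append_of_subset_right _ (List.subset_append_of_subset_right _ (List.subset_append_of_subset_right _ (List.subset_append_of_subset_right _ (List.subset_append_of_subset_right _ (List.subset_append_of_subset_right _ (List.subset_append_of_subset_right _ (List.subset_append_of_subset_right _ (List.subset_append_of_subset_right _ (List.subset_append_of_subset_right _ (List.subset_append_of_subset_right _ (List.subset_append_of_subset_right _ (List.subset_append_of_subset_right _ (List.subset_append_left _ _)))))))))))))))))))))))))) h) ix0 <|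
  .cons tx1 (fun _ h => List.map_subset _ (show N.M.E_dL38 ⊆ N.M.Ents9 from (List.subset_append_of_subset_right _ (List.subset_append_of_subset_right _ (List.subset_append_of_subset_right _ (List.subset_append_of_subset_right _ (List.subset_append_of_subset_right _ (List.subset_append_of_subset_right _ (List.subset_append_of_subset_right _ (List.subset_append_of_subset_right _ (List.subset_append_of_subset_right _ (List.subset_append_of_subset_right _ (List.subset_append_of_subset_right _ (List.subset_append_of_subset_right _ (List.subset_append_of_subset_right _ (List.subset_append_of_subset_right _ (List.subset_append_of_subset_right _ (List.subset_append_of_subset_right _ (List.subset_append_of_subset_right _ (List.subset_append_of_subset_right _ (List.subset_append_of_subset_right _ (List.subset_append_of_subset_right _ (List.subset_append_of_subset_right _ (List.subset_append_of_subset_right _ (List.subset_append_of_subset_right _ (List.subset_append_left _ _))))))))))))))))))))))))) h) ix1 <|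
  .nil
theorem lev9 (hl : N.A.Hl 9 (N.C2.Mod.R1 :: N.C2.UT.R2 :: N.G.rels N.G.S9)) :
    N.Lev 9 (N.M.Ents9.map Prod.fst) ∧ N.LevI 9 I9 :=
  lev_of2 hl lev8.2 ea9 xa9 ra9 (by decide +kernel)

end Cfsg.Agent.FS.NB.D
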